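import Cfsg.Agent.BLK.Gg.Defs

/-!
Sections and quotients of `Md`.
-/

set_option autoImplicit false

namespace CL.Gg.Bas2

open Subgroup Cfsg

universe u v

variable {X : Type u} {V : Type v} [Group X] [Finite X] [AddCommGroup V] [Finite V]
  [DistribMulAction X V]

omit [Finite X] in
theorem sec (h : Md X V) {g : X} (hg : Odd (orderOf g)) (h1 : g ≠ 1) (W : AddSubgroup V)
    (hW : ∀ w ∈ W, g • w ∈ W) {v : V} (hv : g • v - v ∈ W) : v ∈ W := by
  let f : W → W := fun w => ⟨g • w - w, W.sub_mem (hW w w.2) w.2⟩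
  have key : ∀ a b : V, g • a - a = g • b - b → a = b := fun a b e =>
    sub_eq_zero.1 (h.fp g hg h1 _ (by
      rw [smul_sub, sub_eq_sub_iff_sub_eq_sub]; exact e))
  obtain ⟨w, hw⟩ := Finite.injective_iff_surjective.1
    (show Function.Injective f from fun a b e => Subtype.ext (key _ _ (congrArg Subtype.val e))) ⟨_, hv⟩
  exact key w v (congrArg Subtype.val hw) ▸ w.2

omit [Finite X] [Finite V] in
theorem even_card (h : Md X V) (W Z : AddSubgroup V) (hWZ : ¬ Z ≤ W) :
    2 ∣ Nat.card (Z ⧸ W.addSubgroupOf Z) := by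
  obtain ⟨z, hz, hz'⟩ := SetLike.not_le_iff_exists.1 hWZ
  have : Fact (Nat.Prime 2) := ⟨Nat.prime_two⟩
  have e : addOrderOf (QuotientAddGroup.mk (⟨z, hz⟩ : Z) : Z ⧸ W.addSubgroupOf Z) = 2 := by
    refine addOrderOf_eq_prime ?_ fun e => hz' ?_
    · rw [two_nsmul, ← QuotientAddGroup.mk_add, QuotientAddGroup.eq_zero_iff]
      change z + z ∈ W
      rw [h.two]; exact W.zero_mem
    · exact (QuotientAddGroup.eq_zero_iff (N := W.addSubgroupOf Z) ⟨z, hz⟩).1 e
  exact e ▸ addOrderOf_dvd_natCard _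

omit [Finite X] in
theorem fix_sec (h : Md X V) (D : Subgroup X) (hD : IsPGroup 2 D) (W Z : AddSubgroup V)
    (hW : ∀ d ∈ D, ∀ w ∈ W, d • w ∈ W) (hZ : ∀ d ∈ D, ∀ z ∈ Z, d • z ∈ Z) (hWZ : ¬ Z ≤ W) (_hle : W ≤ Z) :
    ∃ z ∈ Z, z ∉ W ∧ ∀ d ∈ D, d • z - z ∈ W := by
  have : Fact (Nat.Prime 2) := ⟨Nat.prime_two⟩
  let φ : D → Z →+ Z := fun d =>
    { toFun := fun z => ⟨(d : X) • (z : V), hZ d d.2 z z.2⟩
      map_zero' := Subtype.ext (smul_zero _)
      map_add' := fun a b => Subtype.ext (smul_add _ _ _) }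
  let : MulAction D (Z ⧸ W.addSubgroupOf Z) :=
    { smul := fun d => QuotientAddGroup.map (W.addSubgroupOf Z) (W.addSubgroupOf Z) (φ d) fun w hw => hW d d.2 w hw
      one_smul := fun a => QuotientAddGroup.induction_on a fun z =>
        congrArg QuotientAddGroup.mk (Subtype.ext (one_smul X (z : V)))
      mul_smul := fun a b c => QuotientAddGroup.induction_on c fun z =>
        congrArg QuotientAddGroup.mk (Subtype.ext (mul_smul (a : X) (b : X) (z : V))) }
  obtain ⟨b, hb, hb0⟩ := hD.exists_fixed_point_of_prime_dvd_card_of_fixed_point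
    (Z ⧸ W.addSubgroupOf Z) (even_card h W Z hWZ) (a := 0) fun d => map_zero (QuotientAddGroup.map _ _ (φ d) _)
  obtain ⟨z, rfl⟩ := QuotientAddGroup.mk_surjective b
  refine ⟨z, z.2, fun hz => hb0 ((QuotientAddGroup.eq_zero_iff (N := W.addSubgroupOf Z) z).2 hz).symm, fun d hd => ?_⟩
  have := (QuotientAddGroup.eq_iff_sub_mem (N := W.addSubgroupOf Z)).1 (hb ⟨d, hd⟩)
  exact this

theorem quot (h : Md X V) (D : Subgroup X) [D.Normal] (hD : IsPGroup 2 D) :
    ∃ (W : Type v) (_ : AddCommGroup W) (_ : Finite W) (_ : DistribMulAction (X ⧸ D) W),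
      Md (X ⧸ D) W := by
  let W : AddSubgroup V :=
    { carrier := {v | ∀ d ∈ D, d • v = v}
      add_mem' := fun {a b} ha hb d hd => by rw [smul_add, ha d hd, hb d hd]
      zero_mem' := fun d _ => smul_zero d
      neg_mem' := fun {a} ha d hd => by rw [smul_neg, ha d hd] }
  have hW : ∀ (g : X) (w : W), g • (w : V) ∈ W := fun g w d hd => by
    have := w.2 (g⁻¹ * d * g⁻¹⁻¹) (Subgroup.Normal.conj_mem inferInstance d hd g⁻¹)
    rwa [inv_inv, mul_smul, mul_smul, inv_smul_eq_iff] at this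
  let : DistribMulAction (X ⧸ D) W :=
    { smul := fun x w => Quotient.liftOn' x (fun g => (⟨g • (w : V), hW g w⟩ : W)) fun a b e =>
        Subtype.ext (by
          have := w.2 _ (QuotientGroup.leftRel_apply.1 e)
          rw [mul_smul, inv_smul_eq_iff] at this
          exact this.symm)
      one_smul := fun w => Subtype.ext (one_smul X (w : V))
      mul_smul := fun a b w => QuotientGroup.induction_on a fun a => QuotientGroup.induction_on b fun b =>
        Subtype.ext (mul_smul a b (w : V))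
      smul_zero := fun a => QuotientGroup.induction_on a fun a => Subtype.ext (smul_zero a)
      smul_add := fun a x y => QuotientGroup.induction_on a fun a => Subtype.ext (smul_add a (x : V) y) }
  refine ⟨W, inferInstance, inferInstance, inferInstance, fun w => Subtype.ext (h.two w), ?_, ?_⟩
  · obtain ⟨v, hv⟩ := h.nt
    obtain ⟨z, -, hz, hz'⟩ := fix_sec h D hD ⊥ ⊤ (fun d _ w hw => by
      rw [AddSubgroup.mem_bot.1 hw, smul_zero]; exact AddSubgroup.zero_mem _)
      (fun _ _ _ _ => AddSubgroup.mem_top _) (fun e => hv (AddSubgroup.mem_bot.1 (e (AddSubgroup.mem_top v)))) bot_le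
    exact ⟨⟨z, fun d hd => sub_eq_zero.1 (AddSubgroup.mem_bot.1 (hz' d hd))⟩,
      fun e => hz (AddSubgroup.mem_bot.2 (congrArg Subtype.val e))⟩
  · intro x hx h1 w hw
    obtain ⟨g, rfl⟩ := QuotientGroup.mk_surjective x
    have hw' : g • (w : V) = w := congrArg Subtype.val hw
    obtain ⟨k, m, hm, e⟩ := Nat.exists_eq_two_pow_mul_odd (orderOf_pos g).ne'
    have hp : ∀ n : ℕ, g ^ n • (w : V) = w := fun n => by
      induction n with
      | zero => rw [pow_zero, one_smul]
      | succ n ih => rw [pow_succ, mul_smul, hw', ih]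
    refine Subtype.ext (h.fp (g ^ 2 ^ k) ?_ (fun e1 => h1 ?_) _ (hp _))
    · refine hm.of_dvd_nat (orderOf_dvd_of_pow_eq_one ?_)
      rw [← pow_mul, ← e, pow_orderOf_eq_one]
    · rw [← orderOf_eq_one_iff]
      refine Nat.Coprime.eq_one_of_dvd (Nat.Coprime.pow_right k (Nat.coprime_two_right.2 hx))
        (orderOf_dvd_of_pow_eq_one ?_)
      rw [← QuotientGroup.mk_pow, e1, QuotientGroup.mk_one]

end CL.Gg.Bas2
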