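import Mathlib.LinearAlgebra.Matrix.ProjectiveSpecialLinearGroup
import Mathlib.FieldTheory.Finite.Basic
import Mathlib.GroupTheory.PGroup
import Mathlib.LinearAlgebra.Matrix.Notation
import Mathlib.Tactic.LinearCombination
import Mathlib.Tactic.FinCases
import Mathlib.Tactic.Group

/-!
`PSL₂(q)`, `q` odd, has a four-group normalized by an element of order 3.
-/

set_option autoImplicit false

namespace CL.Gg.L2q

open Subgroup

theorem gen {G : Type*} [Group G] [Finite G] (u v x : G) (hu : u * u = 1) (hv : v * v = 1)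
    (huv : (u * v) * (u * v) = 1) (h1 : x * u = u * v * x) (h2 : x * v = u * x) (h3 : x ^ 3 = 1)
    (hne : u ≠ 1) :
    ∃ (x : G) (E : Subgroup G), orderOf x = 3 ∧ IsPGroup 2 E ∧ x ∈ normalizer (E : Set G) ∧ E ≠ ⊥ := by
  have hui : u⁻¹ = u := inv_eq_of_mul_eq_one_right hu
  have hvi : v⁻¹ = v := inv_eq_of_mul_eq_one_right hv
  have hc : v * u = u * v := by
    have : (u * v)⁻¹ = u * v := inv_eq_of_mul_eq_one_right huv
    rw [mul_inv_rev, hui, hvi] at this
    exact this
  have hu' : ∀ y, u * (u * y) = y := fun y => by rw [← mul_assoc, hu, one_mul]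
  have hv' : ∀ y, v * (v * y) = y := fun y => by rw [← mul_assoc, hv, one_mul]
  have hc' : ∀ y, v * (u * y) = u * (v * y) := fun y => by rw [← mul_assoc, hc, mul_assoc]
  let E : Subgroup G :=
    { carrier := {g | g = 1 ∨ g = u ∨ g = v ∨ g = u * v}
      one_mem' := Or.inl rfl
      mul_mem' := by
        rintro a b (rfl | rfl | rfl | rfl) (rfl | rfl | rfl | rfl) <;>
          simp [hu, hv, hc, hu', hc', mul_assoc]
      inv_mem' := by
        rintro a (rfl | rfl | rfl | rfl) <;> simp [hui, hvi, hc] }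
  have hx1 : x * u * x⁻¹ = u * v := by rw [h1]; group
  have hx2 : x * v * x⁻¹ = u := by rw [h2]; group
  refine ⟨x, E, ?_, ?_, ?_, ?_⟩
  · have : Fact (Nat.Prime 3) := ⟨Nat.prime_three⟩
    refine orderOf_eq_prime h3 ?_
    rintro rfl
    simp only [one_mul, inv_one, mul_one] at hx1 hx2
    have : v = 1 := by simpa using hx1
    exact hne (by rw [← hx2, this])
  · rintro ⟨g, hg⟩
    refine ⟨1, Subtype.ext ?_⟩
    rcases hg with rfl | rfl | rfl | rfl <;> simp [pow_two, hu, hv, huv]
  · refine mem_normalizer_fintype ?_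
    rintro n (rfl | rfl | rfl | rfl)
    · exact Or.inl (by group)
    · exact Or.inr (Or.inr (Or.inr hx1))
    · exact Or.inr (Or.inl hx2)
    · refine Or.inr (Or.inr (Or.inl ?_))
      have : x * (u * v) * x⁻¹ = (x * u * x⁻¹) * (x * v * x⁻¹) := by group
      rw [this, hx1, hx2, mul_assoc, hc, hu']
  · intro h
    have : u ∈ E := Or.inr (Or.inl rfl)
    rw [h] at this
    exact hne this

theorem sq_one {F : Type} [Field F] (A : Matrix.SpecialLinearGroup (Fin 2) F)
    (h : (A : Matrix (Fin 2) (Fin 2) F) * A = -1) :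
    (QuotientGroup.mk A : Matrix.ProjectiveSpecialLinearGroup (Fin 2) F) * QuotientGroup.mk A = 1 := by
  rw [← QuotientGroup.mk_mul, QuotientGroup.eq_one_iff, Matrix.SpecialLinearGroup.mem_center_iff]
  refine ⟨-1, by simp, ?_⟩
  rw [Matrix.SpecialLinearGroup.coe_mul, h]
  ext r s
  fin_cases r <;> fin_cases s <;> simp

theorem psl2_odd (F : Type) [Field F] [Fintype F] (ho : Odd (Fintype.card F)) :
    ∃ (x : Matrix.ProjectiveSpecialLinearGroup (Fin 2) F)
      (E : Subgroup (Matrix.ProjectiveSpecialLinearGroup (Fin 2) F)), orderOf x = 3 ∧ IsPGroup 2 E ∧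
      x ∈ normalizer (E : Set (Matrix.ProjectiveSpecialLinearGroup (Fin 2) F)) ∧ E ≠ ⊥ := by
  classical
  have h2 : (2 : F) ≠ 0 := by
    have hr : ringChar F ≠ 2 := fun h => by
      have := FiniteField.even_card_of_char_two h
      rw [Nat.odd_iff] at ho
      omega
    exact Ring.two_ne_zero hr
  obtain ⟨p, hp⟩ := CharP.exists F
  have : NeZero p := ⟨CharP.char_ne_zero_of_finite F p⟩
  obtain ⟨a0, b0, hab0⟩ := CharP.sq_add_sq F p (-1)
  obtain ⟨a, b, hab⟩ : ∃ a b : F, a ^ 2 + b ^ 2 = -1 := ⟨a0, b0, by simpa using hab0⟩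
  obtain ⟨h, hh⟩ : ∃ h : F, 2 * h = 1 := ⟨2⁻¹, mul_inv_cancel₀ h2⟩
  let i : Matrix.SpecialLinearGroup (Fin 2) F := ⟨!![0, 1; -1, 0], by simp [Matrix.det_fin_two]⟩
  let j : Matrix.SpecialLinearGroup (Fin 2) F :=
    ⟨!![a, b; b, -a], by rw [Matrix.det_fin_two_of]; linear_combination -hab⟩
  let x : Matrix.SpecialLinearGroup (Fin 2) F :=
    ⟨!![h * (-1 + a + b), h * (1 + b - a); h * (-1 + b - a), h * (-1 - a - b)], by
      rw [Matrix.det_fin_two_of]; linear_combination (-2 * h ^ 2) * hab + (2 * h + 1) * hh⟩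
  have hxx : x * x * x = 1 := by
    apply Subtype.ext
    show x.1 * x.1 * x.1 = 1
    simp only [x, Matrix.mul_fin_two]
    ext r s
    fin_cases r <;> fin_cases s <;> simp <;> grind
  refine gen (QuotientGroup.mk i) (QuotientGroup.mk j) (QuotientGroup.mk x) (sq_one i ?_) (sq_one j ?_) ?_ ?_ ?_ ?_ ?_
  · simp only [i, Matrix.mul_fin_two]
    ext r s
    fin_cases r <;> fin_cases s <;> simp
  · simp only [j, Matrix.mul_fin_two]
    ext r s
    fin_cases r <;> fin_cases s <;> simp <;> grind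
  · rw [← QuotientGroup.mk_mul]
    refine sq_one _ ?_
    show (i.1 * j.1) * (i.1 * j.1) = -1
    simp only [i, j, Matrix.mul_fin_two]
    ext r s
    fin_cases r <;> fin_cases s <;> simp <;> grind
  · rw [← QuotientGroup.mk_mul, ← QuotientGroup.mk_mul, ← QuotientGroup.mk_mul]
    congr 1
    apply Subtype.ext
    show x.1 * i.1 = i.1 * j.1 * x.1
    simp only [i, j, x, Matrix.mul_fin_two]
    ext r s
    fin_cases r <;> fin_cases s <;> simp <;> grind
  · rw [← QuotientGroup.mk_mul, ← QuotientGroup.mk_mul]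
    congr 1
    apply Subtype.ext
    show x.1 * j.1 = i.1 * x.1
    simp only [i, j, x, Matrix.mul_fin_two]
    ext r s
    fin_cases r <;> fin_cases s <;> simp <;> grind
  · rw [pow_three', ← QuotientGroup.mk_mul, ← QuotientGroup.mk_mul, hxx]
    rfl
  · intro h1
    rw [QuotientGroup.eq_one_iff, Matrix.SpecialLinearGroup.mem_center_iff] at h1
    obtain ⟨r, -, hr⟩ := h1
    have := congrFun (congrFun hr 0) 1
    simp [i] at this

end CL.Gg.L2q
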