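import Cfsg.Agent.BLK.Gg.Shp

/-!
No 2-element centralizes one element of order 3 and inverts another.
-/

set_option autoImplicit false

namespace CL.Gg

open Subgroup Cfsg CL.MSS

universe u v

variable {X : Type u} {V : Type v} [Group X] [Finite X] [AddCommGroup V] [Finite V]
  [DistribMulAction X V]

omit [Finite X] [Finite V] in
/-- In `End V`: `b := x + y + xy + yx` commutes with `x` and `y` (`x² = x+1`, `cube`), so with `u ∈ ⟨x,y⟩`; but `u b u⁻¹ = x + y⁻¹ + xy⁻¹ + y⁻¹x = b + 1` (`y⁻¹ = y+1`). -/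
theorem Md.lj0 (h : Md X V) {x y u : X} (hx : orderOf x = 3) (hy : orderOf y = 3)
    (hu : u ∈ zpowers x ⊔ zpowers y) (h1 : u * x * u⁻¹ = x) (h2 : u * y * u⁻¹ = y⁻¹) : False := by
  have k : ∀ {x y : X}, orderOf x = 3 → ∀ v : V, x • (x • v + y • v + x • y • v + y • x • v) =
      x • x • v + y • x • v + x • y • x • v + y • x • x • v := fun {x y} hx v => by
    simp only [smul_add, h.cube hx]
    linear_combination (norm := abel1) h.two (x • y • v) - h.two (y • x • v)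
  let K : Subgroup X :=
    { carrier := {g | ∀ v : V, g • (x • v + y • v + x • y • v + y • x • v) =
        x • g • v + y • g • v + x • y • g • v + y • x • g • v}
      one_mem' := fun v => by simp only [one_smul]
      mul_mem' := fun {a b} ha hb v => by simp only [mul_smul]; rw [hb, ha]
      inv_mem' := fun {a} ha v => by rw [inv_smul_eq_iff, ha, smul_inv_smul] }
  have kx : x ∈ K := k hx
  have ky : y ∈ K := fun v => by
    linear_combination (norm := (simp only [smul_add]; abel1)) k (y := x) hy v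
  have hK : u ∈ K := sup_le (zpowers_le.2 kx) (zpowers_le.2 ky) hu
  have e1 : ∀ v : V, u • x • v = x • u • v := fun v => by
    rw [← mul_smul, ← mul_smul, mul_inv_eq_iff_eq_mul.1 h1]
  have e2 : ∀ v : V, u • y • v = y • u • v + u • v := fun v => by
    rw [← h.cube hy, ← mul_smul, mul_inv_eq_iff_eq_mul.1 h2, mul_smul, ← mul_smul y y,
      eq_inv_of_mul_eq_one_left (show y * y * y = 1 by rw [← pow_three', ← hy, pow_orderOf_eq_one])]
  obtain ⟨v, hv⟩ := h.nt
  have := hK (u⁻¹ • v)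
  simp only [smul_add, e1, e2, smul_inv_smul] at this
  exact hv (by linear_combination (norm := abel1) this - h.two (x • v))

/-- `J := ⟨x⟩ ⊔ ⟨y⟩ = X3 J`. `J = ⊤`: `lj0`. Else `x3_sub`: `J = ⟨x⟩` gives `y = y⁻¹`; `L2o J`: in `Y := J ⊔ ⟨u⟩` (or `N(J)`), `L2o.out` says `u` centralizes `J ∋ y`. -/
theorem Md.lj (ih : IH.{u, v} (Nat.card X)) (h : Md X V) (hA : NoA X) {x y u : X}
    (hx : orderOf x = 3) (hy : orderOf y = 3) (hu : ∃ k : ℕ, u ^ 2 ^ k = 1)
    (h1 : u * x * u⁻¹ = x) (h2 : u * y * u⁻¹ = y⁻¹) : False := by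
  have ne : u * y * u⁻¹ ≠ y := fun e => by
    have := orderOf_dvd_of_pow_eq_one (show y ^ 2 = 1 by rw [sq, ← eq_inv_iff_mul_eq_one, ← h2, e])
    rw [hy] at this
    exact absurd this (by decide)
  obtain ⟨J, hJ⟩ : ∃ J, J = zpowers x ⊔ zpowers y := ⟨_, rfl⟩
  have xJ : x ∈ J := hJ ▸ mem_sup_left (mem_zpowers x)
  have yJ : y ∈ J := hJ ▸ mem_sup_right (mem_zpowers y)
  by_cases c : J = ⊤
  · exact h.lj0 hx hy (hJ ▸ c ▸ mem_top u) h1 h2
  have e : X3 J = J := le_antisymm (X3_le J) (hJ.trans_le (sup_le (zpowers_le.2 (mem_X3 xJ hx)) (zpowers_le.2 (mem_X3 yJ hy))))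
  rcases e ▸ h.x3_sub ih hA (lt_of_le_of_ne (card_le_card_group J) fun e => c (eq_top_of_card_eq J e)) xJ hx with a | a
  · obtain ⟨n, rfl⟩ := a ▸ yJ
    exact ne (by simp only [← conj_zpow, h1])
  have uJ : u ∈ normalizer (J : Set X) := mem_normalizer_fintype fun g hg =>
    (hJ.trans_le (sup_le (zpowers_le.2 (h1.symm ▸ xJ : u * x * u⁻¹ ∈ J)) (zpowers_le.2 (h2.symm ▸ inv_mem yJ : u * y * u⁻¹ ∈ J)) :
      _ ≤ J.comap (MulAut.conj u).toMonoidHom)) hg
  obtain ⟨k, hk⟩ := hu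
  have := L2o.out (J.subgroupOf (normalizer (J : Set X))) (a.of_equiv (subgroupOfEquivOfLe le_normalizer))
    (u := ⟨u, uJ⟩) (x := ⟨x, le_normalizer xJ⟩) ⟨k, Subtype.ext hk⟩ xJ ((orderOf_mk _ _).trans hx)
    (Subtype.ext (mul_inv_eq_iff_eq_mul.1 h1)) ⟨y, le_normalizer yJ⟩ yJ
  exact ne (mul_inv_eq_iff_eq_mul.2 (congrArg Subtype.val this).symm)

end CL.Gg
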