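import Cfsg.Agent.BLK.Gg.Bas

/-!
The element `x + y + xy + yx` of the endomorphism ring is central for `⟨x, y⟩`.
-/

set_option autoImplicit false

namespace CL.Gg.LJ0

open Subgroup Cfsg

universe u v

variable {X : Type u} {V : Type v} [Group X] [AddCommGroup V] [DistribMulAction X V]

/-- The elements commuting with a self-map of `V`. -/
def Cm (X : Type u) {V : Type v} [Group X] [AddCommGroup V] [DistribMulAction X V] (b : V → V) :
    Subgroup X where
  carrier := {g | ∀ v : V, g • b v = b (g • v)}
  one_mem' := fun v => by rw [one_smul, one_smul]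
  mul_mem' := fun {a c} ha hc v => by rw [mul_smul, hc, ha, mul_smul]
  inv_mem' := fun {a} ha v => by rw [inv_smul_eq_iff, ha, smul_inv_smul]

theorem lj0 (h : Md X V) {x y u : X} (hx : orderOf x = 3) (hy : orderOf y = 3)
    (hu : u ∈ zpowers x ⊔ zpowers y) (h1 : u * x * u⁻¹ = x) (h2 : u * y * u⁻¹ = y⁻¹) : False := by
  have cx := h.cube hx
  have cy := h.cube hy
  let b : V → V := fun v => x • v + y • v + x • y • v + y • x • v
  have hle : zpowers x ⊔ zpowers y ≤ Cm X b := by
    refine sup_le (zpowers_le.2 fun v => ?_) (zpowers_le.2 fun v => ?_)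
    · show x • (x • v + y • v + x • y • v + y • x • v) =
        x • x • v + y • x • v + x • y • x • v + y • x • x • v
      rw [smul_add, smul_add, smul_add, cx (y • v), cx v, smul_add]
      linear_combination (norm := abel) h.two (x • y • v) - h.two (y • x • v)
    · show y • (x • v + y • v + x • y • v + y • x • v) =
        x • y • v + y • y • v + x • y • y • v + y • x • y • v
      rw [smul_add, smul_add, smul_add, cy (x • v), cy v, smul_add]
      linear_combination (norm := abel) h.two (y • x • v) - h.two (x • y • v)
  have hub : ∀ v : V, u • b v = b (u • v) := hle hu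
  have ux : ∀ v : V, u • x • v = x • u • v := fun v => by
    rw [smul_smul, smul_smul, ← h1, inv_mul_cancel_right, h1]
  have y3 : y⁻¹ = y * y := by
    rw [inv_eq_iff_mul_eq_one, ← pow_orderOf_eq_one y, hy, pow_succ', pow_two]
  have uy : ∀ v : V, u • y • v = y • u • v + u • v := fun v => by
    rw [← cy, smul_smul, smul_smul, smul_smul, ← y3, ← h2, inv_mul_cancel_right]
  obtain ⟨v, hv⟩ := h.nt
  apply hv
  have e := hub v
  change u • (x • v + y • v + x • y • v + y • x • v) =
    x • u • v + y • u • v + x • y • u • v + y • x • u • v at e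
  rw [smul_add, smul_add, smul_add, ux (y • v), uy (x • v), uy v, ux v, smul_add] at e
  have e0 : u • v = 0 := by
    linear_combination (norm := abel) e - h.two (x • u • v)
  rwa [smul_eq_zero_iff_eq] at e0

end CL.Gg.LJ0
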