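import Cfsg.Agent.BLK.Gg.Shp
import Cfsg.Agent.BLK.Gg.SLb

/-!
A subgroup with `⁅At V t, x⁆ ≤ O₂(J)` normalizes `At V t`.
-/

set_option autoImplicit false

namespace CL.Gg

open Subgroup Cfsg CL.MSS

universe u v

namespace LYx

theorem eq_top {J : Type*} [Group J] {O N : Subgroup J} [O.Normal] (h1 : O ≤ N)
    (h2 : ⊤ ≤ N.map (QuotientGroup.mk' O)) : N = ⊤ := by
  have := comap_map_eq (QuotientGroup.mk' O) N
  rw [QuotientGroup.ker_mk', sup_eq_left.2 h1, top_le_iff.1 h2, comap_top] at this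
  exact this.symm

theorem conj_comm {X : Type*} [Group X] {O : Subgroup X} {x s : X} (h1 : ∀ o ∈ O, s * o * s⁻¹ ∈ O)
    (h2 : s * x * s⁻¹ = x⁻¹) {t : X} (ht : t ∈ ⁅O, zpowers x⁆) : s * t * s⁻¹ ∈ ⁅O, zpowers x⁆ := by
  have : ⁅O, zpowers x⁆ ≤ ⁅O, zpowers x⁆.comap (MulAut.conj s).toMonoidHom := by
    refine commutator_le.2 fun o ho y hy => ?_
    obtain ⟨k, rfl⟩ := mem_zpowers_iff.1 hy
    rw [mem_comap, map_commutatorElement]
    refine commutator_mem_commutator (h1 o ho) ?_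
    rw [map_zpow]
    exact zpow_mem (show s * x * s⁻¹ ∈ _ from h2 ▸ inv_mem (mem_zpowers x)) k
  exact this ht

variable {X : Type u} {V : Type v} [Group X] [AddCommGroup V] [DistribMulAction X V]

theorem pres {t g : X} (hg : g ∈ normalizer (At V t : Set X)) {v : V} (hv : t • v = v) :
    t • g • v = g • v := by
  have := (mem_normalizer_iff''.1 hg t).1 (self_mem_At t) v hv
  rw [mul_smul, mul_smul, inv_smul_eq_iff] at this
  exact this

/-- the fixed vectors of `t` -/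
def U (V : Type v) [AddCommGroup V] [DistribMulAction X V] (t : X) : AddSubgroup V where
  carrier := {v | t • v = v}
  add_mem' {a b} ha hb := by
    change t • (a + b) = a + b
    rw [smul_add, ha, hb]
  zero_mem' := smul_zero t
  neg_mem' {a} ha := by
    change t • (-a) = -a
    rw [smul_neg, ha]

/-- the largest `J`-invariant subgroup of `U` -/
def W (V : Type v) [AddCommGroup V] [DistribMulAction X V] (J : Subgroup X) (t : X) : AddSubgroup V where
  carrier := {v | ∀ g : J, t • g • v = g • v}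
  add_mem' {a b} ha hb g := by rw [smul_add, smul_add, ha g, hb g]
  zero_mem' g := by rw [smul_zero, smul_zero]
  neg_mem' {a} ha g := by rw [smul_neg, smul_neg, ha g]

/-- the vectors fixed by `O` modulo `W` -/
def Z {J : Type u} [Group J] [DistribMulAction J V] (O : Subgroup J) (W : AddSubgroup V) : AddSubgroup V where
  carrier := {v | ∀ o ∈ O, o • v - v ∈ W}
  add_mem' {a b} ha hb o ho := by
    rw [smul_add, add_sub_add_comm]
    exact add_mem (ha o ho) (hb o ho)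
  zero_mem' o _ := by rw [smul_zero, sub_zero]; exact zero_mem W
  neg_mem' {a} ha o ho := by
    rw [smul_neg, neg_sub_neg, ← neg_sub]
    exact neg_mem (ha o ho)

/-- the elements of `O` fixing the `T`-orbit of `z` -/
def B {J : Type u} [Group J] [DistribMulAction J V] (O T : Subgroup J) (z : V) : Subgroup J where
  carrier := {o | o ∈ O ∧ ∀ τ ∈ T, o • τ • z = τ • z}
  mul_mem' {a b} ha hb := ⟨mul_mem ha.1 hb.1, fun τ hτ => by rw [mul_smul, hb.2 τ hτ, ha.2 τ hτ]⟩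
  one_mem' := ⟨one_mem O, fun τ _ => one_smul _ _⟩
  inv_mem' {a} ha := ⟨inv_mem ha.1, fun τ hτ => by rw [inv_smul_eq_iff, ha.2 τ hτ]⟩

end LYx

variable {X : Type u} {V : Type v} [Group X] [Finite X] [AddCommGroup V] [Finite V]
  [DistribMulAction X V]

theorem Md.ly0 (ih : ∀ n, IH.{u, v} n) (h : Md X V) (hO : pCore 2 X = ⊥) {J : Subgroup X}
    (hJ : J ≤ pCoreOf 2 J ⊔ X3 J) {x : X} (hxJ : x ∈ J) (hx : orderOf x = 3) {t : X}
    (ht : t ∈ ⁅pCoreOf 2 J, zpowers x⁆) (h1 : t ≠ 1) (hle : ⁅At V t, zpowers x⁆ ≤ pCoreOf 2 J) :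
    J ≤ normalizer (At V t : Set X) := by
  have := Fact.mk Nat.prime_two
  have hP : IsPGroup 2 (pCoreOf 2 J) := CL.Amalg.isPGroup_pCoreOf' J
  have hN : J ≤ normalizer (pCoreOf 2 J : Set X) := CL.Amalg.le_normalizer_pCoreOf J
  have hP' : IsPGroup 2 (pCore 2 J) :=
    CL.Amalg.pCoreOf_subgroupOf (p := 2) J ▸ hP.comap_of_injective J.subtype J.subtype_injective
  obtain ⟨o2, hQ⟩ := h.q2_le hO hP hx (hN hxJ) ht h1
  obtain ⟨nx, nO⟩ := h.q2_norm hO hP hx (hN hxJ) ht h1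
  have hQO : ⁅pCoreOf 2 J, zpowers x⁆ ≤ pCoreOf 2 J :=
    commutator_le.2 fun o ho y hy => by
      rw [commutatorElement_def, mul_assoc, mul_assoc, ← mul_assoc y]
      exact mul_mem ho ((mem_normalizer_iff.1 (zpowers_le.2 (hN hxJ) hy) _).1 (inv_mem ho))
  let x' : J := ⟨x, hxJ⟩
  have hx' : orderOf x' = 3 := (orderOf_coe x').symm.trans hx
  have hxq := ord3_mk (pCore 2 J) hP' hx'
  have nO' : pCore 2 J ≤ (normalizer (At V t : Set X)).subgroupOf J := fun o ho =>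
    nO ((CL.Amalg.mem_pCoreOf_coe o).2 ho)
  rcases h.shapeA ih hO hJ hxJ hx ht h1 hle with hS | hS
  · have e : zpowers (x' : J ⧸ pCore 2 J) = ⊤ :=
      eq_top_of_card_eq _ (by rw [Nat.card_zpowers, hxq, hS])
    have := LYx.eq_top nO' (e ▸ zpowers_le.2 ⟨x', nx, rfl⟩)
    exact fun g hg => (this.ge (mem_top (⟨g, hg⟩ : J)) :)
  by_cases hUW : LYx.U V t ≤ LYx.W V J t
  · intro g hg
    refine h.At_TI hO o2 (self_mem_At t) h1 fun v hv => ?_
    have := hUW hv (⟨g, hg⟩ : J)⁻¹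
    change t • g⁻¹ • v = g⁻¹ • v at this
    rw [mul_smul, mul_smul, this, smul_inv_smul]
  exfalso
  obtain ⟨σ, hσ, hi⟩ := hS.l2e.inv_of_ord3 hxq
  obtain ⟨s, rfl, ⟨k, hk⟩, hs⟩ := lift_inv (pCore 2 J) hP' hx'
    ⟨1, orderOf_dvd_iff_pow_eq_one.1 (by rw [hσ]; rfl)⟩ hi
  have hsO : s ∉ pCore 2 J := fun e => by
    rw [(QuotientGroup.eq_one_iff s).2 e, orderOf_one] at hσ
    omega
  have ns : (s : X) ∈ normalizer (At V t : Set X) :=
    h.At_TI hO o2 (self_mem_At t) h1 (hQ (LYx.conj_comm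
      (fun o ho => (mem_normalizer_iff.1 (hN s.2) o).1 ho) (congrArg Subtype.val hs) ht))
  have hD : IsPGroup 2 (pCore 2 J ⊔ zpowers s :) := by
    refine IsPGroup.to_sup_of_normal_left hP' ?_
    rintro ⟨_, j, rfl⟩
    refine ⟨k, Subtype.ext ?_⟩
    change (s ^ j) ^ 2 ^ k = 1
    rw [← zpow_natCast, ← zpow_mul, mul_comm, zpow_mul, zpow_natCast, hk, one_zpow]
  have hW : ∀ g : J, ∀ w ∈ LYx.W V J t, g • w ∈ LYx.W V J t := fun g w hw g' => by
    rw [← mul_smul g']; exact hw _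
  have hWU : LYx.W V J t ≤ LYx.U V t := fun w hw => by
    have := hw 1
    rwa [one_smul] at this
  obtain ⟨z, hzU, hzW, hz⟩ := (h.sub J).fix_sec _ hD (LYx.W V J t) (LYx.U V t) (fun d _ => hW d)
    (fun d hd v hv => LYx.pres ((sup_le nO' (zpowers_le.2 ns) : _ ≤ (normalizer (At V t : Set X)).subgroupOf J) hd) hv)
    hUW hWU
  obtain ⟨T, hT⟩ := hD.exists_le_sylow
  have hτ : ∀ τ ∈ (T : Subgroup J), τ • z ∈ LYx.U V t := fun τ hτ => by
    have := (h.sub J).nat1 (pCore 2 J) hP' hS.l2e (LYx.W V J t) (LYx.Z (pCore 2 J) (LYx.W V J t))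
      (fun w hw o _ => sub_mem (hW o w hw) hw) hW (fun g v hv o ho => by
        have := hW g _ (hv _ ((inferInstance : (pCore 2 J).Normal).conj_mem' o ho g))
        rwa [smul_sub, mul_smul, mul_smul, smul_inv_smul] at this)
      (fun o ho v hv => hv o ho) T (hT (mem_sup_right (mem_zpowers s))) hsO
      (fun o ho => hz o (mem_sup_left ho)) (hz s (mem_sup_right (mem_zpowers s))) hτ
    simpa using add_mem (hWU this) hzU
  have hQB : ∀ q : J, (q : X) ∈ ⁅pCoreOf 2 J, zpowers x⁆ → q ∈ LYx.B (pCore 2 J) T z := fun q hq =>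
    ⟨(CL.Amalg.mem_pCoreOf_coe q).1 (hQO hq), fun τ hτ' => hQ hq _ (hτ τ hτ')⟩
  have n1 : (T : Subgroup J) ≤ normalizer (LYx.B (pCore 2 J) T z : Set J) := fun g hg =>
    mem_normalizer_fintype fun b hb => ⟨(inferInstance : (pCore 2 J).Normal).conj_mem b hb.1 g, fun τ hτ' => by
      rw [mul_smul, mul_smul, ← mul_smul g⁻¹, hb.2 _ (mul_mem (inv_mem hg) hτ'), mul_smul, smul_inv_smul]⟩
  have n2 : x' ∈ normalizer (LYx.B (pCore 2 J) T z : Set J) := mem_normalizer_fintype fun b hb => by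
    have e : x' * b * x'⁻¹ = b * (b⁻¹ * x' * b⁻¹⁻¹ * x'⁻¹) := by group
    rw [e]
    exact mul_mem hb (hQB _ (commutator_mem_commutator
      (inv_mem ((CL.Amalg.mem_pCoreOf_coe b).2 hb.1)) (mem_zpowers x)))
  have hg := hS.l2e.gen _ (hS.not_norm (T.mapSurjective (f := QuotientGroup.mk' (pCore 2 J))
    (QuotientGroup.mk'_surjective _)) hxq)
  have n3 := LYx.eq_top (le_sup_left.trans (hT.trans n1))
    (hg.ge.trans (sup_le (map_mono n1) (zpowers_le.2 ⟨x', n2, rfl⟩)))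
  refine hzW fun g => ?_
  have := ((mem_normalizer_iff''.1 (n3.ge (mem_top g)) _).1
    (hQB ⟨t, CL.Amalg.pCoreOf_le' J (hQO ht)⟩ ht)).2 1 (one_mem _)
  rw [one_smul, mul_smul, mul_smul, inv_smul_eq_iff] at this
  exact this

/-- `J := Y ⊔ ⟨x⟩ ⊔ ⟨y⟩`, `Y ≤ O₂(J)`. -/
theorem Md.ly (ih : ∀ n, IH.{u, v} n) (h : Md X V) (hO : pCore 2 X = ⊥) {Y : Subgroup X}
    (hY : IsPGroup 2 Y) {x y : X} (hx : orderOf x = 3) (hy : orderOf y = 3)
    (hxn : x ∈ normalizer (Y : Set X)) (hyn : y ∈ normalizer (Y : Set X)) {t : X}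
    (ht : t ∈ ⁅Y, zpowers x⁆) (h1 : t ≠ 1) (hle : ⁅At V t, zpowers x⁆ ≤ Y) :
    y ∈ normalizer (At V t : Set X) := by
  have := Fact.mk Nat.prime_two
  have hYO : Y ≤ pCoreOf 2 (Y ⊔ zpowers x ⊔ zpowers y) :=
    CL.Amalg.le_pCoreOf' hY (le_sup_left.trans le_sup_left)
      (sup_le (sup_le le_normalizer (zpowers_le.2 hxn)) (zpowers_le.2 hyn))
  have hxJ : x ∈ Y ⊔ zpowers x ⊔ zpowers y := mem_sup_left (mem_sup_right (mem_zpowers x))
  have hyJ : y ∈ Y ⊔ zpowers x ⊔ zpowers y := mem_sup_right (mem_zpowers y)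
  exact h.ly0 ih hO (sup_le (sup_le (hYO.trans le_sup_left) (zpowers_le.2 (mem_sup_right (mem_X3 hxJ hx))))
    (zpowers_le.2 (mem_sup_right (mem_X3 hyJ hy)))) hxJ hx (commutator_mono hYO le_rfl ht) h1 (hle.trans hYO) hyJ

end CL.Gg
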