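import Cfsg.Agent.BLK.Gg.Defs

/-!
`ly` from `ly0`.
-/

set_option autoImplicit false

namespace CL.Gg

open Subgroup Cfsg CL.MSS

universe u v

variable {X : Type u} {V : Type v} [Group X] [AddCommGroup V] [DistribMulAction X V]

theorem LY2.ly (H0 : ∀ {J : Subgroup X}, J ≤ pCoreOf 2 J ⊔ X3 J → ∀ {x : X}, x ∈ J → orderOf x = 3 →
      ∀ {t : X}, t ∈ ⁅pCoreOf 2 J, zpowers x⁆ → t ≠ 1 → ⁅At V t, zpowers x⁆ ≤ pCoreOf 2 J →
        J ≤ normalizer (At V t : Set X)) {Y : Subgroup X}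
    (hY : IsPGroup 2 Y) {x y : X} (hx : orderOf x = 3) (hy : orderOf y = 3)
    (hxn : x ∈ normalizer (Y : Set X)) (hyn : y ∈ normalizer (Y : Set X)) {t : X}
    (ht : t ∈ ⁅Y, zpowers x⁆) (h1 : t ≠ 1) (hle : ⁅At V t, zpowers x⁆ ≤ Y) :
    y ∈ normalizer (At V t : Set X) := by
  have : Fact (Nat.Prime 2) := ⟨Nat.prime_two⟩
  set J : Subgroup X := Y ⊔ (zpowers x ⊔ zpowers y) with hJ
  have hxJ : x ∈ J := mem_sup_right (mem_sup_left (mem_zpowers x))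
  have hyJ : y ∈ J := mem_sup_right (mem_sup_right (mem_zpowers y))
  have hn : J ≤ normalizer (Y : Set X) :=
    sup_le le_normalizer (sup_le (zpowers_le.2 hxn) (zpowers_le.2 hyn))
  have hYO : Y ≤ pCoreOf 2 J := CL.Amalg.le_pCoreOf' hY le_sup_left hn
  refine H0 (J := J) ?_ hxJ hx (commutator_mono hYO le_rfl ht) h1 (hle.trans hYO) hyJ
  exact sup_le (hYO.trans le_sup_left) (sup_le (zpowers_le.2 (mem_sup_right (mem_X3 hxJ hx)))
    (zpowers_le.2 (mem_sup_right (mem_X3 hyJ hy))))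

end CL.Gg
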