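import Cfsg.Agent.BLK.Gg.Defs

/-!
The last step of `Md.ly0`: the `T`-conjugates of `⁅O,⟨x⟩⁆` generate a subgroup normalized by `T` and `x`.
-/

set_option autoImplicit false

namespace CL.Gg.LY3

open Subgroup Cfsg

universe u v

variable {X : Type u} {V : Type v} [Group X] [MulAction X V]

theorem mem_norm {R : Subgroup X} {g : X} (h1 : ∀ r ∈ R, g * r * g⁻¹ ∈ R)
    (h2 : ∀ r ∈ R, g⁻¹ * r * g⁻¹⁻¹ ∈ R) : g ∈ normalizer (R : Set X) := by
  rw [mem_normalizer_iff]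
  refine fun r => ⟨h1 r, fun h => ?_⟩
  have := h2 _ h
  simpa [mul_assoc] using this

theorem fin' {O T J : Subgroup X} {x : X} (hTJ : T ≤ J) (hON : J ≤ normalizer (O : Set X))
    (hxJ : x ∈ J) (hgen : J ≤ T ⊔ zpowers x) {z : V}
    (hz : ∀ τ ∈ T, ∀ q ∈ ⁅O, zpowers x⁆, (τ * q * τ⁻¹) • z = z) :
    ∀ g ∈ J, ∀ q ∈ ⁅O, zpowers x⁆, (g * q * g⁻¹) • z = z := by
  have hcj : ∀ g ∈ J, ∀ o ∈ O, g * o * g⁻¹ ∈ O := fun g hg o ho =>
    (mem_normalizer_iff.1 (hON hg) o).1 ho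
  have hxJ' : zpowers x ≤ J := (zpowers_le (G := X)).2 hxJ
  have hQO : ⁅O, zpowers x⁆ ≤ O := commutator_le.2 fun o ho y hy => by
    have := O.mul_mem ho (hcj y (hxJ' hy) _ (O.inv_mem ho))
    simpa [commutatorElement_def, mul_assoc] using this
  let R : Subgroup X := closure {r | ∃ τ ∈ T, ∃ q ∈ ⁅O, zpowers x⁆, r = τ * q * τ⁻¹}
  have hQR : ⁅O, zpowers x⁆ ≤ R := fun q hq => subset_closure ⟨1, T.one_mem, q, hq, by simp⟩
  have hRO : R ≤ O := (closure_le _).2 (by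
    rintro _ ⟨τ, hτ, q, hq, rfl⟩
    exact hcj τ (hTJ hτ) q (hQO hq))
  have hRz : R ≤ MulAction.stabilizer X z := (closure_le _).2 (by
    rintro _ ⟨τ, hτ, q, hq, rfl⟩
    exact hz τ hτ q hq)
  have hT : ∀ g ∈ T, ∀ r ∈ R, g * r * g⁻¹ ∈ R := by
    intro g hg r hr
    induction hr using closure_induction with
    | mem r hr =>
      obtain ⟨τ, hτ, q, hq, rfl⟩ := hr
      exact subset_closure ⟨g * τ, T.mul_mem hg hτ, q, hq, by group⟩
    | one => simp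
    | mul a b _ _ ha hb =>
      have := R.mul_mem ha hb
      simpa [mul_assoc] using this
    | inv a _ ha =>
      have := R.inv_mem ha
      simpa [mul_assoc] using this
  have hX : ∀ g ∈ zpowers x, ∀ r ∈ R, g * r * g⁻¹ ∈ R := by
    intro g hg r hr
    have h1 := hQR (commutator_mem_commutator (O.inv_mem (hRO hr)) hg)
    have := R.mul_mem hr h1
    simpa [commutatorElement_def, mul_assoc] using this
  have hJ : J ≤ normalizer (R : Set X) := hgen.trans (sup_le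
    (fun g hg => mem_norm (hT g hg) (hT _ (T.inv_mem hg)))
    (fun g hg => mem_norm (hX g hg) (hX _ ((zpowers x).inv_mem hg))))
  intro g hg q hq
  exact hRz ((mem_normalizer_iff.1 (hJ hg) q).1 (hQR hq))

theorem fin {T J : Subgroup X} {x : X} (hTJ : T ≤ J) (hxJ : x ∈ J) (hgen : J ≤ T ⊔ zpowers x) {z : V}
    (hz : ∀ τ ∈ T, ∀ q ∈ ⁅pCoreOf 2 J, zpowers x⁆, (τ * q * τ⁻¹) • z = z) :
    ∀ g ∈ J, ∀ q ∈ ⁅pCoreOf 2 J, zpowers x⁆, (g * q * g⁻¹) • z = z := by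
  exact fin' hTJ (CL.Amalg.le_normalizer_pCoreOf J) hxJ hgen hz

end CL.Gg.LY3
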