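import Cfsg.Agent.BLK.Gg.X3
import Cfsg.Agent.BLK.Gg.SLb

/-!
Generation of `J` by a Sylow `2`-subgroup (or `O₂(J)`) and an element of order 3.
-/

set_option autoImplicit false

namespace CL.Gg.LY4

open Subgroup Cfsg

universe u

variable {X : Type u} [Group X] [Finite X]

theorem lift {J : Type u} [Group J] (O K : Subgroup J) [O.Normal] (hOK : O ≤ K)
    (h : K.map (QuotientGroup.mk' O) = ⊤) : K = ⊤ := by
  have := congrArg (comap (QuotientGroup.mk' O)) h
  rwa [comap_map_eq, QuotientGroup.ker_mk', sup_of_le_left hOK, comap_top] at this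

theorem gen0 {J : Type u} [Group J] [Finite J] (O : Subgroup J) [O.Normal] (hO : IsPGroup 2 O)
    (hL : L2o (J ⧸ O)) (T : Sylow 2 J) {x : J} (hx : orderOf x = 3) :
    (T : Subgroup J) ⊔ zpowers x = ⊤ := by
  have hOT : O ≤ (T : Subgroup J) := hO.le_sylow_of_normal T
  refine lift O _ (hOT.trans le_sup_left) ?_
  have h1 := hL.l2e.gen (T.mapSurjective (QuotientGroup.mk'_surjective O))
    (hL.not_norm _ (ord3_mk O hO hx))
  rw [Subgroup.map_sup, MonoidHom.map_zpowers]
  exact h1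

theorem three0 {J : Type u} [Group J] [Finite J] (O : Subgroup J) [O.Normal] (hO : IsPGroup 2 O)
    (hL : Nat.card (J ⧸ O) = 3) {x : J} (hx : orderOf x = 3) : O ⊔ zpowers x = ⊤ := by
  refine lift O _ le_sup_left ?_
  rw [Subgroup.map_sup, MonoidHom.map_zpowers]
  have h1 : zpowers (x : J ⧸ O) = ⊤ :=
    Subgroup.eq_top_of_card_eq _ (by rw [Nat.card_zpowers, ord3_mk O hO hx, hL])
  exact eq_top_iff.2 (h1.ge.trans le_sup_right)

omit [Finite X] in
theorem push {J : Subgroup X} {K : Subgroup J} {x : X} (hxJ : x ∈ J)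
    (h : K ⊔ zpowers (⟨x, hxJ⟩ : J) = ⊤) : J ≤ K.map J.subtype ⊔ zpowers x := by
  have := congrArg (map J.subtype) h
  rw [Subgroup.map_sup, MonoidHom.map_zpowers, ← MonoidHom.range_eq_map, range_subtype] at this
  exact this.ge

theorem gen {J : Subgroup X} (hL : L2o (J ⧸ pCore 2 J)) (T : Sylow 2 J) {x : X} (hxJ : x ∈ J)
    (hx : orderOf x = 3) : J ≤ (T : Subgroup J).map J.subtype ⊔ zpowers x :=
  push hxJ (gen0 _ (CL.isPGroup_pCore 2 J) hL T ((orderOf_coe _).symm.trans hx))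

theorem three {J : Subgroup X} (hL : Nat.card (J ⧸ pCore 2 J) = 3) {x : X} (hxJ : x ∈ J)
    (hx : orderOf x = 3) : J ≤ pCoreOf 2 J ⊔ zpowers x :=
  push hxJ (three0 _ (CL.isPGroup_pCore 2 J) hL ((orderOf_coe _).symm.trans hx))

end CL.Gg.LY4
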