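import Cfsg.Agent.BLK.Gg.Bas
import Cfsg.Agent.BLK.Gg.X3
import Cfsg.Agent.BLK.Gg.SLa
import Cfsg.Agent.S3050
import Cfsg.Agent.BLK.Gg.Nat2

/-!
Sections of `V` for `J` with `J / O ≅ SL₂(2^k)`: sums of natural modules (Higman, S3050 / `CL.Hig.main` in FGS/HigSec).
Form `G := Multiplicative (Z ⧸ W) ⋊ (J ⧸ O)` (or `⋊ J`, quotient map `G → J ⧸ O` is not faithful then: use `J ⧸ O`), `Q :=` the first factor; an element of order 3 of `J`
(`lift3`) is fixed point free on `Z / W` (`Md.sec`). S3050: `Q = ⨆ V i`, each natural through `(ρ_i, ψ_i)`; `ρ_i` kills `Q` (`ρ_i(Q)` is a normal 2-subgroup of the simple `SL₂`) and is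
injective on `J ⧸ O`; `ρ_i(T)` is a Sylow 2-subgroup = the transvections fixing one line `ℓ_i`. Both claims are additive in `z`, so check them on each `V i`
(for `nat1` use independence of the `V i` to project).
-/

set_option autoImplicit false

namespace CL.Gg

open Subgroup Cfsg CL.MSS

universe u v

variable {X : Type u} {V : Type v} [Group X] [Finite X] [AddCommGroup V] [Finite V]
  [DistribMulAction X V]

/-- `C(s) = C(T)` on `Z / W`: on a natural module each `ρ(s) ≠ 1`, `s ∈ T`, fixes exactly `ℓ`. -/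
theorem Md.nat1 (h : Md X V) (O : Subgroup X) [O.Normal] (hO : IsPGroup 2 O) (hL : L2e (X ⧸ O))
    (W Z : AddSubgroup V) (hWZ : W ≤ Z) (hW : ∀ g : X, ∀ w ∈ W, g • w ∈ W)
    (hZ : ∀ g : X, ∀ z ∈ Z, g • z ∈ Z) (hOZ : ∀ o ∈ O, ∀ z ∈ Z, o • z - z ∈ W) (T : Sylow 2 X)
    {s : X} (hs : s ∈ (T : Subgroup X)) (hsO : s ∉ O) {z : V} (hz : z ∈ Z) (hsz : s • z - z ∈ W)
    {t : X} (ht : t ∈ (T : Subgroup X)) : t • z - z ∈ W :=
  Nat2.nat1 h O hO hL W Z hWZ hW hZ hOZ T hs hsO hz hsz ht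

/-- With `T` upper unitriangular: `t = [[1,a],[0,1]]`, `g = [[λ,μ],[0,λ⁻¹]]`: both sides are `(λ² a z₂, 0)`. -/
theorem Md.nat2 (h : Md X V) (O : Subgroup X) [O.Normal] (hO : IsPGroup 2 O) (hL : L2e (X ⧸ O))
    (W Z : AddSubgroup V) (hWZ : W ≤ Z) (hW : ∀ g : X, ∀ w ∈ W, g • w ∈ W)
    (hZ : ∀ g : X, ∀ z ∈ Z, g • z ∈ Z) (hOZ : ∀ o ∈ O, ∀ z ∈ Z, o • z - z ∈ W) (T : Sylow 2 X)
    {g : X} (hg : g ∈ normalizer ((T : Subgroup X) : Set X)) {t : X} (ht : t ∈ (T : Subgroup X))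
    {z : V} (hz : z ∈ Z) : (g * g) • (t • z - z) - ((g * t * g⁻¹) • z - z) ∈ W :=
  Nat2.nat2 h O hO hL W Z hWZ hW hZ hOZ T hg ht hz

end CL.Gg
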