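import Cfsg.Agent.BLK.Gg.Fr
import Cfsg.Agent.BLK.Gg.Nat

/-!
`A := At V t` embeds in `Hom(V/U, U)`, `U := C_V(t)` (`K`-invariant: `k⁻¹ t k ∈ A`). `a ∈ A` fixing `n ∉ U` is `1` (`At_eq`, `fix_eq`); `a•v - v ∈ U` (`At_quad`).
`Z := {v | ∀ o ∈ O, o•v - v ∈ U}`, `U₁ := {u ∈ U | ∀ o ∈ O, o•u = u}` are `K`-invariant; `y•z - z ∈ U₁` for `z ∈ Z`. Use `Md.sub` and `nat1`, `nat2` for the group `K`.
-/

set_option autoImplicit false

namespace CL.Gg

open Subgroup Cfsg CL.MSS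

universe u v

variable {X : Type u} {V : Type v} [Group X] [Finite X] [AddCommGroup V] [Finite V]
  [DistribMulAction X V]

namespace MA2

/-- The vectors fixed by `t`. -/
def U (V : Type v) [AddCommGroup V] [DistribMulAction X V] (t : X) : AddSubgroup V where
  carrier := {v | t • v = v}
  zero_mem' := smul_zero t
  add_mem' := fun {a b} ha hb => by
    change t • (a + b) = a + b
    rw [smul_add, show t • a = a from ha, show t • b = b from hb]
  neg_mem' := fun {a} ha => by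
    change t • (-a) = -a
    rw [smul_neg, show t • a = a from ha]

/-- The vectors fixed by `O` modulo `W`. -/
def Z {K : Type u} [Group K] [DistribMulAction K V] (O : Subgroup K) (W : AddSubgroup V) : AddSubgroup V where
  carrier := {v | ∀ o ∈ O, o • v - v ∈ W}
  zero_mem' := fun o _ => by simp
  add_mem' := fun {a b} ha hb o ho => by
    rw [smul_add, add_sub_add_comm]
    exact add_mem (ha o ho) (hb o ho)
  neg_mem' := fun {a} ha o ho => by
    rw [smul_neg, neg_sub_neg, ← neg_sub]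
    exact neg_mem (ha o ho)

omit [Finite V] in
theorem Z_inv {K : Type u} [Group K] [DistribMulAction K V] (O : Subgroup K) [hN : O.Normal] {W : AddSubgroup V}
    (hW : ∀ g : K, ∀ w ∈ W, g • w ∈ W) (g : K) (z : V) (hz : z ∈ Z O W) : g • z ∈ Z O W := fun o ho => by
  have := hW g _ (hz _ (hN.conj_mem' o ho g))
  rwa [smul_sub, ← mul_smul, ← mul_assoc, ← mul_assoc, mul_inv_cancel, one_mul, mul_smul] at this

omit [Finite X] [Finite V] in
theorem cj {t : X} {K : Subgroup X} (hK : K ≤ normalizer (At V t : Set X)) (g : K) {a : X} (ha : a ∈ At V t) :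
    (g : X) * a * (g : X)⁻¹ ∈ At V t := (mem_normalizer_iff.1 (hK g.2) a).1 ha

omit [Finite X] [Finite V] in
theorem U_inv {t : X} {K : Subgroup X} (hK : K ≤ normalizer (At V t : Set X)) (g : K) (w : V) (hw : w ∈ U V t) :
    g • w ∈ U V t := by
  have := congrArg ((g : X) • ·) (cj hK g⁻¹ (self_mem_At t) w hw)
  simp only [← mul_smul, coe_inv, inv_inv, ← mul_assoc, mul_inv_cancel, one_mul] at this
  rw [mul_smul] at this
  exact this

theorem inj (h : Md X V) (hO : pCore 2 X = ⊥) {t : X} (ht : orderOf t = 2) {n : V} (hn : n ∉ U V t) {a b : X}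
    (ha : a ∈ At V t) (hb : b ∈ At V t) (e : a • n = b • n) : a = b := by
  have hc := mul_mem (inv_mem hb) ha
  by_contra h1
  have h2 : b⁻¹ * a ≠ 1 := fun e => h1 (inv_mul_eq_one.1 e).symm
  exact hn ((h.fix_eq hO (h.At_eq hO ht hc h2).1 ht hc n).1 (by rw [mul_smul, e, inv_smul_smul]))

theorem ex (h : Md X V) (hO : pCore 2 X = ⊥) {t : X} (ht : orderOf t = 2) {K : Subgroup X}
    (hK : K ≤ normalizer (At V t : Set X)) (D : Subgroup K) (hD : IsPGroup 2 D) :
    ∃ n : V, n ∉ U V t ∧ n ∈ Z D (U V t) := by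
  obtain ⟨n, -, h1, h2⟩ := (h.sub K).fix_sec D hD (U V t) ⊤ (fun d _ => U_inv hK d) (fun _ _ _ _ => trivial)
    (fun e => by
      have := h.faith hO fun v => e (AddSubgroup.mem_top v)
      rw [this, orderOf_one] at ht
      exact absurd ht (by decide)) le_top
  exact ⟨n, h1, h2⟩

theorem le_syl {K : Type u} [Group K] {O : Subgroup K} [O.Normal] (hO : IsPGroup 2 O) (T : Sylow 2 K) :
    O ≤ T := by
  rw [← T.is_maximal' (hO.to_sup_of_normal_left T.isPGroup') le_sup_right]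
  exact le_sup_left

omit [Finite X] [Finite V] in
theorem mod {t a : X} (ha : a ∈ At V t) {z z' : V} (e : z' - z ∈ U V t) : a • z' - z' = a • z - z := by
  have := ha _ e
  rw [smul_sub, sub_eq_sub_iff_sub_eq_sub] at this
  exact this

theorem mem1 (h : Md X V) (hO : pCore 2 X = ⊥) {t : X} (ht : orderOf t = 2) {K : Subgroup X} {O : Subgroup K}
    {y : X} (hy : y ∈ At V t) (hyO : ∀ o ∈ O, (o : X) * y = y * o) {z : V} (hz : z ∈ Z O (U V t)) :
    y • z - z ∈ U V t ⊓ Z O ⊥ := by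
  refine ⟨h.At_quad hO ht hy (self_mem_At t) z, fun o ho => ?_⟩
  rw [AddSubgroup.mem_bot, sub_eq_zero, Subgroup.smul_def, smul_sub, ← mul_smul, hyO o ho, mul_smul]
  exact mod hy (hz o ho)

omit [Finite X] [Finite V] in
theorem inv1 {t : X} {K : Subgroup X} (hK : K ≤ normalizer (At V t : Set X)) (O : Subgroup K) [O.Normal] (g : K)
    (w : V) (hw : w ∈ U V t ⊓ Z O ⊥) : g • w ∈ U V t ⊓ Z O ⊥ :=
  ⟨U_inv hK g w hw.1, Z_inv O (fun g w hw => by rw [AddSubgroup.mem_bot.1 hw, smul_zero]; exact zero_mem _) g w hw.2⟩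

theorem ex2 (h : Md X V) (hO : pCore 2 X = ⊥) {t : X} (ht : orderOf t = 2) {K : Subgroup X}
    (hK : K ≤ normalizer (At V t : Set X)) (O : Subgroup K) [O.Normal] (hO2 : IsPGroup 2 O)
    (hL : L2e (K ⧸ O)) (T : Sylow 2 K) :
    ∃ τ ∈ (T : Subgroup K), ∃ z ∈ Z O (U V t), τ • z - z ∉ U V t := by
  by_contra! H
  let N : Subgroup K :=
    { carrier := {k | ∀ z ∈ Z O (U V t), k • z - z ∈ U V t}
      one_mem' := fun z _ => by simp
      mul_mem' := fun {a b} ha hb z hz => by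
        have := add_mem (ha _ (Z_inv O (U_inv hK) b z hz)) (hb z hz)
        rwa [sub_add_sub_cancel, ← mul_smul] at this
      inv_mem' := fun {a} ha z hz => by
        have := neg_mem (ha _ (Z_inv O (U_inv hK) a⁻¹ z hz))
        rwa [smul_inv_smul, neg_sub] at this }
  have hN : N.Normal := ⟨fun a ha g z hz => by
    have := U_inv hK g _ (ha _ (Z_inv O (U_inv hK) g⁻¹ z hz))
    rwa [smul_sub, smul_inv_smul, ← mul_smul, ← mul_smul] at this⟩
  have hs := QuotientGroup.mk'_surjective O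
  have := hL.simple.1
  have : Fact (Nat.Prime 2) := ⟨Nat.prime_two⟩
  rcases (hN.map _ hs).eq_bot_or_eq_top with e | e
  · have h4 := hL.syl_card (T.mapSurjective hs)
    rw [Sylow.coe_mapSurjective, le_bot_iff.1 ((map_mono (show (T : Subgroup K) ≤ N from H)).trans e.le),
      card_bot] at h4
    omega
  have e2 : N = ⊤ := by
    rw [← comap_map_eq_self (f := QuotientGroup.mk' O) (H := N) (by
      rw [QuotientGroup.ker_mk']; exact fun o ho z hz => hz o ho), e, comap_top]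
  obtain ⟨n, h1, h2⟩ := ex h hO ht hK O hO2
  have sq : ∀ s : K ⧸ O, s⁻¹ = s := fun s => by
    obtain ⟨k, rfl⟩ := hs s
    obtain ⟨j, hj⟩ := BasX.odd_pow k
    have : k ^ 2 ^ j = 1 := by
      by_contra h3
      exact h1 ((h.sub K).sec hj h3 _ (U_inv hK _) ((e2.ge (mem_top _) : _ ∈ N) n h2))
    exact inv_eq_of_mul_eq_one_right (by rw [← pow_two]; exact hL.sq ⟨j, by rw [← map_pow, this, map_one]⟩)
  exact hL.simple.2 ⟨⟨fun a b => by rw [← sq (a * b), mul_inv_rev, sq, sq]⟩⟩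

end MA2

open MA2

/-- There are `τ ∈ T`, `z ∈ Z` with `n := τ•z - z ∉ U` (else the normal subgroup of `K` acting trivially on `Z/U ≠ 0` (`fix_sec`) contains `T`, so is `K`, against `Md.sec` for an element of order 3).
`u := y•z - z ∈ U₁`; `nat2` on `(U, Z)` and on `(⊥, U₁)`: `(y-1) g² n = (y-1)(τ^g - 1) z = (τ^g - 1) u = g² (τ-1) u = g² (y-1) n`. So `(g²)⁻¹ y⁻¹ g² y ∈ A` fixes `n`. -/
theorem Md.ma2a (h : Md X V) (hO : pCore 2 X = ⊥) {t : X} (ht : orderOf t = 2) {K : Subgroup X}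
    (hK : K ≤ normalizer (At V t : Set X)) (O : Subgroup K) [O.Normal] (hO2 : IsPGroup 2 O)
    (hL : L2e (K ⧸ O)) (T : Sylow 2 K) {y : X} (hy : y ∈ At V t)
    {g : K} (hg : g ∈ normalizer ((T : Subgroup K) : Set K))
    (hc : ∀ τ ∈ (T : Subgroup K), (τ : X) * y = y * τ) : ((g : X) * g) * y = y * ((g : X) * g) := by
  obtain ⟨τ, hτ, z, hz, hn⟩ := ex2 h hO ht hK O hO2 hL T
  have hu := mem1 h hO ht hy (fun o ho => hc o (le_syl hO2 T ho)) hz
  have h1 := (h.sub K).nat2 O hO2 hL (U V t) (Z O (U V t))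
    (fun w hw o _ => sub_mem (U_inv hK o w hw) hw) (U_inv hK) (Z_inv O (U_inv hK)) (fun o ho z hz => hz o ho) T hg hτ hz
  have h2 := (h.sub K).nat2 O hO2 hL ⊥ (U V t ⊓ Z O ⊥) bot_le
    (fun g w hw => by rw [AddSubgroup.mem_bot.1 hw, smul_zero]; exact zero_mem _) (inv1 hK O)
    (fun o ho z hz => hz.2 o ho) T hg hτ hu
  have cm : ∀ s ∈ (T : Subgroup K), y • (s • z - z) - (s • z - z) = s • (y • z - z) - (y • z - z) := fun s hs => by
    simp only [Subgroup.smul_def, smul_sub, ← mul_smul, hc s hs]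
    abel
  have h3 := mod hy h1
  rw [cm _ ((mem_normalizer_iff.1 hg τ).1 hτ), ← sub_eq_zero.1 (AddSubgroup.mem_bot.1 h2), ← cm τ hτ,
    smul_sub (g * g) (y • (τ • z - z)), sub_left_inj] at h3
  have h4 := inj h hO ht hn (cj hK (g * g)⁻¹ hy) hy (by
    rw [coe_inv, inv_inv, mul_smul, mul_smul, inv_smul_eq_iff]
    exact h3)
  rw [coe_inv, inv_inv, mul_assoc, inv_mul_eq_iff_eq_mul] at h4
  exact h4.symm

/-- `n₀ ∉ U` with `τ•n₀ - n₀ ∈ U` for all `τ ∈ T` (`fix_sec`, `Z = ⊤`); `ev a := a•n₀ - n₀` is additive and injective on `A`, `ev (τ a τ⁻¹) = τ • ev a`. `u := ev y ∈ U₁`; `c := σ y σ⁻¹ y⁻¹` has `ev c = σ•u - u`,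
fixed by `τ`: `σ ∈ O`: zero; `σ ∉ O`: `σ² ∈ O` (`L2e.sq`), `σ` fixes it, `nat1` on `(⊥, U₁)`. -/
theorem Md.ma2b (h : Md X V) (hO : pCore 2 X = ⊥) {t : X} (ht : orderOf t = 2) {K : Subgroup X}
    (hK : K ≤ normalizer (At V t : Set X)) (O : Subgroup K) [O.Normal] (hO2 : IsPGroup 2 O)
    (hL : L2e (K ⧸ O)) (T : Sylow 2 K) {y : X} (hy : y ∈ At V t)
    (hyO : ∀ o ∈ O, (o : X) * y = y * o) {σ τ : K} (hσ : σ ∈ (T : Subgroup K))
    (hτ : τ ∈ (T : Subgroup K)) :
    (τ : X) * ((σ : X) * y * (σ : X)⁻¹ * y⁻¹) = ((σ : X) * y * (σ : X)⁻¹ * y⁻¹) * τ := by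
  obtain ⟨n, hn, hT⟩ := ex h hO ht hK T T.isPGroup'
  have hu := mem1 h hO ht hy hyO (z := n) fun o ho => hT o (le_syl hO2 T ho)
  have ev : ∀ s ∈ (T : Subgroup K), ∀ a ∈ At V t, ((s : X) * a * (s : X)⁻¹) • n - n = s • (a • n - n) :=
    fun s hs a ha => by
      rw [← mod ha (hT _ (inv_mem hs)), smul_sub, smul_inv_smul, mul_smul, mul_smul]; rfl
  have hc := mul_mem (cj hK σ hy) (inv_mem hy)
  have e1 : ((σ : X) * y * (σ : X)⁻¹ * y⁻¹) • n - n = σ • (y • n - n) - (y • n - n) := by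
    have h1 : y⁻¹ • n - n = -(y • n - n) := by
      have := inv_mem hy _ hu.1
      rw [smul_sub, inv_smul_smul] at this
      rw [← this, neg_sub]
    rw [← ev σ hσ y hy, ← mod (cj hK σ hy) (z' := y⁻¹ • n) (h1 ▸ neg_mem hu.1), ← mul_smul, sub_eq_add_neg _ (y • n - n),
      ← h1, sub_add_sub_cancel]
  have e2 : τ • (σ • (y • n - n) - (y • n - n)) = σ • (y • n - n) - (y • n - n) := by
    by_cases h0 : σ ∈ O
    · rw [AddSubgroup.mem_bot.1 (hu.2 σ h0), smul_zero]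
    obtain ⟨k, hk⟩ := T.isPGroup' ⟨σ, hσ⟩
    have h2 : σ ^ 2 ∈ O := by
      rw [← QuotientGroup.eq_one_iff, QuotientGroup.mk_pow]
      exact hL.sq ⟨k, by rw [← QuotientGroup.mk_pow, show σ ^ 2 ^ k = 1 from congrArg Subtype.val hk]; rfl⟩
    refine sub_eq_zero.1 (AddSubgroup.mem_bot.1 ((h.sub K).nat1 O hO2 hL ⊥ (U V t ⊓ Z O ⊥) bot_le
      (fun g w hw => by rw [AddSubgroup.mem_bot.1 hw, smul_zero]; exact zero_mem _) (inv1 hK O)
      (fun o ho z hz => hz.2 o ho) T hσ h0 (sub_mem (inv1 hK O σ _ hu) hu) ?_ hτ))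
    rw [smul_sub, ← mul_smul, ← pow_two, sub_eq_zero.1 (AddSubgroup.mem_bot.1 (hu.2 _ h2)), AddSubgroup.mem_bot,
      ← neg_sub (σ • (y • n - n)), ← neg_add', h.two, neg_zero]
  have := inj h hO ht hn (cj hK τ hc) hc (by rw [← sub_left_inj (a := n), ev τ hτ _ hc, e1, e2])
  exact mul_inv_eq_iff_eq_mul.1 this

end CL.Gg
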