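import Cfsg.Agent.BLK.Gg.Shp
import Cfsg.Agent.BLK.Gg.MA1
import Cfsg.Agent.BLK.Gg.MA2

/-!
The normalizer `M` of `A := At V t` when `Q := ⁅A,⟨x⟩⁆ ≠ 1`.
-/

set_option autoImplicit false

namespace CL.Gg

open Subgroup Cfsg CL.MSS
open scoped commutatorElement

universe u v

variable {X : Type u} {V : Type v} [Group X] [Finite X] [AddCommGroup V] [Finite V]
  [DistribMulAction X V]

/-- `K := X3 M ∋ x`, `O := O₂(K) ≥ A ⊓ K ≥ Q`, `Q = ⁅Q,⟨x⟩⁆ ≤ ⁅O,⟨x⟩⁆` (`comm_comm`); `1 ≠ t' ∈ Q`, `At V t' = A`; `⁅O,⟨x⟩⁆ ≤ A` (`q2_le`) so `⁅O,⟨x⟩⁆ = Q`. `shapeA` for `K, t'`.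
Order 3: `K = O⟨x⟩`; an element of order 3 of `K` is `k x^±1 k⁻¹` (`conj3`), `k = o x^i`, `o x o⁻¹ ∈ Q x`. `L2o`: `Y := A ⊓ C(O)` is normalized by `K`; `ma1` with `ma2a`, `ma2b`: `x` centralizes `Y`;
but `Q` is normal in the 2-group `O`, so `Q ⊓ C(O) ≠ ⊥`, against `q2_fpf`. -/
theorem Md.ma (ih : ∀ n, IH.{u, v} n) (h : Md X V) (hO : pCore 2 X = ⊥) {t x : X} (ht : orderOf t = 2)
    (hx : orderOf x = 3) (hn : x ∈ normalizer (At V t : Set X)) (hQ : ⁅At V t, zpowers x⁆ ≠ ⊥) :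
    X3 (normalizer (At V t : Set X)) = ⁅At V t, zpowers x⁆ ⊔ zpowers x := by
  have hA2 := h.At_pg hO ht
  have hKM : X3 (normalizer (At V t : Set X)) ≤ normalizer (At V t : Set X) := X3_le _
  have xK : x ∈ X3 (normalizer (At V t : Set X)) := mem_X3 hn hx
  have hAK : At V t ≤ normalizer (X3 (normalizer (At V t : Set X)) : Set X) :=
    le_normalizer.trans (le_normalizer.trans (normalizer_le_X3 _))
  have hKK : X3 (X3 (normalizer (At V t : Set X))) = X3 (normalizer (At V t : Set X)) := X3_X3 _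
  have hy3 : ∀ y ∈ normalizer (At V t : Set X), orderOf y = 3 → y ∈ X3 (normalizer (At V t : Set X)) :=
    fun y hy h3 => mem_X3 hy h3
  have hcl : ∀ L : Subgroup X, (∀ y ∈ normalizer (At V t : Set X), orderOf y = 3 → y ∈ L) →
      X3 (normalizer (At V t : Set X)) ≤ L := fun L hL => (closure_le L).2 fun y hy => hL y hy.1 hy.2
  generalize X3 (normalizer (At V t : Set X)) = K at hKM xK hAK hKK hy3 hcl ⊢
  have hZK : zpowers x ≤ K := zpowers_le.2 xK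
  have hQA : ⁅At V t, zpowers x⁆ ≤ At V t := commutator_le_left_of_normalizes (hZK.trans hKM)
  have hQK : ⁅At V t, zpowers x⁆ ≤ K :=
    (commutator_mono le_rfl hZK).trans (commutator_le_right_of_normalizes hAK)
  have hO2 : IsPGroup 2 (pCoreOf 2 K) := Amalg.isPGroup_pCoreOf' K
  have hKO : K ≤ normalizer (pCoreOf 2 K : Set X) := Amalg.le_normalizer_pCoreOf K
  have hQO : ⁅At V t, zpowers x⁆ ≤ pCoreOf 2 K := (le_inf hQA hQK).trans
    (Amalg.le_pCoreOf' hA2.to_inf_left inf_le_right (le_normalizer_inf hKM le_normalizer))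
  have hQO' : ⁅At V t, zpowers x⁆ ≤ ⁅pCoreOf 2 K, zpowers x⁆ :=
    (comm_comm hA2 hx hn).symm.le.trans (commutator_mono hQO le_rfl)
  obtain ⟨⟨s, hs⟩, h1⟩ := (ne_bot_iff_exists_ne_one).1 hQ
  have h1' : s ≠ 1 := fun e => h1 (Subtype.ext e)
  have hsA : At V s = At V t := (h.At_eq hO ht (hQA hs) h1').2
  have hOA : ⁅pCoreOf 2 K, zpowers x⁆ ≤ At V t := hsA ▸ (h.q2_le hO hO2 hx (hKO xK) (hQO' hs) h1').2
  have hOQ : ⁅pCoreOf 2 K, zpowers x⁆ = ⁅At V t, zpowers x⁆ := le_antisymm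
    ((comm_comm hO2 hx (hKO xK)).symm.le.trans (commutator_mono hOA le_rfl)) hQO'
  have hp : IsPGroup 2 (pCore 2 K) := Amalg.isPGroup_pCore' 2 K
  have hx' : orderOf (⟨x, xK⟩ : K) = 3 := by rw [← hx]; exact (orderOf_coe (⟨x, xK⟩ : K)).symm
  rcases h.shapeA ih hO (J := K) (by rw [hKK]; exact le_sup_right) xK hx (hQO' hs) h1' (hsA ▸ hQO) with h3 | hL
  · refine le_antisymm (hcl _ fun y hy oy => ?_) (sup_le hQK hZK)
    have hxL : x ∈ ⁅At V t, zpowers x⁆ ⊔ zpowers x := mem_sup_right (mem_zpowers x)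
    have key : ∀ g ∈ K, g * x * g⁻¹ ∈ ⁅At V t, zpowers x⁆ ⊔ zpowers x := by
      intro g hg
      have : Fact (Nat.Prime 3) := ⟨by norm_num⟩
      have h0 : ((⟨x, xK⟩ : K) : K ⧸ pCore 2 K) ≠ 1 := fun e => by
        have h4 := ord3_mk (pCore 2 K) hp hx'
        rw [e, orderOf_one] at h4
        omega
      obtain ⟨n, hn'⟩ := mem_zpowers_of_prime_card h3 h0 (g' := ((⟨g, hg⟩ : K) : K ⧸ pCore 2 K))
      have h5 : (((⟨x, xK⟩ : K) ^ n)⁻¹ * ⟨g, hg⟩ : K) ∈ pCore 2 K := by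
        rw [← QuotientGroup.eq, QuotientGroup.mk_zpow]
        exact hn'
      have h6 : (x ^ n)⁻¹ * g ∈ pCoreOf 2 K := (Amalg.mem_pCoreOf_coe _).2 h5
      have h7 : ⁅(x ^ n)⁻¹ * g, x⁆ ∈ ⁅At V t, zpowers x⁆ :=
        hOQ ▸ commutator_mem_commutator h6 (mem_zpowers x)
      have h8 : g * x * g⁻¹ = x ^ n * (⁅(x ^ n)⁻¹ * g, x⁆ * x) * (x ^ n)⁻¹ := by
        rw [commutatorElement_def]; group
      rw [h8]
      exact mul_mem (mul_mem (zpow_mem hxL n) (mul_mem (mem_sup_left h7) hxL)) (inv_mem (zpow_mem hxL n))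
    obtain ⟨g, hg, e | e⟩ := h.conj3 K xK (hy3 y hy oy) hx oy
    · exact e ▸ key g hg
    · exact inv_mem_iff.1 (e ▸ key g hg)
  · exfalso
    obtain ⟨T⟩ : Nonempty (Sylow 2 K) := inferInstance
    have hOY : ∀ o ∈ pCore 2 K, ∀ y ∈ At V t ⊓ centralizer (pCoreOf 2 K : Set X), (o : X) * y = y * o :=
      fun o ho y hy => hy.2 o ((Amalg.mem_pCoreOf_coe o).2 ho)
    have hc := ma1 (Y := At V t ⊓ centralizer (pCoreOf 2 K : Set X)) (pCore 2 K) hp hL.l2e hA2.to_inf_left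
      (le_normalizer_inf hKM (le_normalizer_centralizer hKO)) hOY T
      (fun g hg y hy hc => h.ma2a hO ht hKM (pCore 2 K) hp hL.l2e T hy.1 hg hc)
      (fun y hy σ hσ τ hτ => h.ma2b hO ht hKM (pCore 2 K) hp hL.l2e T hy.1 (fun o ho => hOY o ho y hy) hσ hτ) hx'
    have hN : pCoreOf 2 K ≤ normalizer ((⁅At V t, zpowers x⁆ : Subgroup X) : Set X) :=
      hOQ ▸ normalizer_commutator_ge_left _ _
    obtain ⟨⟨a, ha⟩, ha1⟩ := (ne_bot_iff_exists_ne_one).1 (inf_centralizer_ne_bot hO2 (hA2.to_le hQA) hN hQ)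
    exact ha1 (Subtype.ext (h.q2_fpf hO hA2 hx hn ha.1 (hc a ⟨hQA ha.1, ha.2⟩)))

end CL.Gg
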