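import Cfsg.Agent.BLK.Gg.X3
import Cfsg.Agent.BLK.Gg.SLb

/-!
Pure group theory: a quadratic module with centralizing torus (independent proof).
-/

set_option autoImplicit false

namespace CL.Gg.MA1x

open Subgroup Cfsg CL.MSS

universe u v

variable {X : Type u} [Group X] [Finite X]

/-- the elements of `K` commuting with `y` -/
def Cy (K : Subgroup X) (y : X) : Subgroup K := (centralizer ({y} : Set X)).subgroupOf K

omit [Finite X] in
theorem mem_Cy {K : Subgroup X} {y : X} {k : K} : k ∈ Cy K y ↔ (k : X) * y = y * k := by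
  rw [Cy, mem_subgroupOf, mem_centralizer_singleton_iff]

omit [Finite X] in
theorem conj_Cy {K : Subgroup X} {y : X} {k w : K} : k ∈ Cy K ((w : X) * y * (w : X)⁻¹) ↔ w⁻¹ * k * w ∈ Cy K y := by
  rw [mem_Cy, mem_Cy]
  simp only [coe_mul, coe_inv]
  constructor
  · intro h
    calc (w : X)⁻¹ * k * w * y = (w : X)⁻¹ * (k * (w * y * (w : X)⁻¹)) * w := by group
      _ = _ := by rw [h]; group
  · intro h
    calc (k : X) * (w * y * (w : X)⁻¹) = w * ((w : X)⁻¹ * k * w * y) * (w : X)⁻¹ := by group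
      _ = _ := by rw [h]; group

omit [Finite X] in
theorem of_mk {G : Type u} [Group G] {O H : Subgroup G} [O.Normal] (h : O ≤ H) {k : G}
    (hk : (k : G ⧸ O) ∈ H.map (QuotientGroup.mk' O)) : k ∈ H := by
  have : k ∈ (H.map (QuotientGroup.mk' O)).comap (QuotientGroup.mk' O) := hk
  rwa [comap_map_eq, QuotientGroup.ker_mk', sup_eq_left.2 h] at this

theorem cen {K Y : Subgroup X} (O : Subgroup K) [O.Normal] (hO : IsPGroup 2 O) (hL : L2e (K ⧸ O))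
    (hn : K ≤ normalizer (Y : Set X))
    (hOY : ∀ o ∈ O, ∀ y ∈ Y, (o : X) * y = y * o) (T : Sylow 2 K)
    (h1 : ∀ g ∈ normalizer ((T : Subgroup K) : Set K), ∀ y ∈ Y,
      (∀ τ ∈ (T : Subgroup K), (τ : X) * y = y * τ) → ((g : X) * g) * y = y * ((g : X) * g))
    (h2 : ∀ y ∈ Y, ∀ σ ∈ (T : Subgroup K), ∀ τ ∈ (T : Subgroup K),
      (τ : X) * ((σ : X) * y * (σ : X)⁻¹ * y⁻¹) = ((σ : X) * y * (σ : X)⁻¹ * y⁻¹) * τ)
    (k : K) (y : X) (hy : y ∈ Y) (hT : ∀ τ ∈ (T : Subgroup K), (τ : X) * y = y * τ) : (k : X) * y = y * k := by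
  have hOT : O ≤ T := hO.le_sylow_of_normal T
  have cj : ∀ (g : K) (z : X), z ∈ Y → (g : X) * z * (g : X)⁻¹ ∈ Y := fun g z hz =>
    (mem_normalizer_iff.1 (hn g.2) z).1 hz
  let S : Sylow 2 (K ⧸ O) := T.mapSurjective (QuotientGroup.mk'_surjective O)
  have hS : ∀ g : K, (g : K ⧸ O) ∈ (S : Subgroup (K ⧸ O)) ↔ g ∈ (T : Subgroup K) := fun g =>
    ⟨of_mk hOT, fun h => ⟨g, h, rfl⟩⟩
  obtain ⟨d', w', hd, -, hdn, hw, hwn, hf, -⟩ := hL.torus S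
  obtain ⟨d, hdo, rfl⟩ := lift_odd O hO hd
  obtain ⟨w, rfl⟩ := QuotientGroup.mk_surjective w'
  have hdN : d ∈ normalizer ((T : Subgroup K) : Set K) := mem_normalizer_iff.2 fun t => by
    rw [← hS, ← hS, mem_normalizer_iff.1 hdn]; rfl
  have hdc : ∀ z ∈ Y, (∀ τ ∈ (T : Subgroup K), (τ : X) * z = z * τ) → d ∈ Cy K z := fun z hz h => by
    obtain ⟨m, hm⟩ := hdo ▸ hd
    have e : d ^ (m + 1) * d ^ (m + 1) = d := by
      rw [← pow_add, show m + 1 + (m + 1) = orderOf d + 1 by omega, pow_succ, pow_orderOf_eq_one, one_mul]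
    have := h1 _ (pow_mem hdN (m + 1)) z hz h
    rw [← coe_mul, e] at this
    exact mem_Cy.2 this
  have hOC : ∀ z ∈ Y, O ≤ Cy K z := fun z hz o ho => mem_Cy.2 (hOY o ho z hz)
  have hy' := cj w y hy
  have hd' : d ∈ Cy K ((w : X) * y * (w : X)⁻¹) := by
    have a : w * d * w⁻¹ ∈ Cy K ((w : X) * y * (w : X)⁻¹) := conj_Cy.2 (by
      rw [show w⁻¹ * (w * d * w⁻¹) * w = d by group]; exact hdc y hy hT)
    refine of_mk (hOC _ hy') ⟨(w * d * w⁻¹)⁻¹, inv_mem a, ?_⟩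
    rw [map_inv, inv_eq_iff_eq_inv]; exact hw
  obtain ⟨⟨t', ht'⟩, ht1⟩ : ∃ t : (S : Subgroup (K ⧸ O)), t ≠ 1 := by
    have : Nontrivial (S : Subgroup (K ⧸ O)) := Finite.one_lt_card_iff_nontrivial.1 (by have := hL.syl_card S; omega)
    exact exists_ne 1
  obtain ⟨t, rfl⟩ := QuotientGroup.mk_surjective t'
  have ht := (hS t).1 ht'
  have a1 := hdc _ (mul_mem (cj t _ hy') (inv_mem hy')) (h2 _ hy' t ht)
  have a2 : d ∈ Cy K ((t : X) * ((w : X) * y * (w : X)⁻¹) * (t : X)⁻¹) := by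
    have e1 := mem_Cy.1 a1
    have e2 := mem_Cy.1 hd'
    rw [mem_Cy]
    generalize (w : X) * y * (w : X)⁻¹ = z at *
    calc (d : X) * (t * z * (t : X)⁻¹) = d * (t * z * (t : X)⁻¹ * z⁻¹) * z := by group
      _ = t * z * (t : X)⁻¹ * z⁻¹ * (d * z) := by rw [e1]; group
      _ = _ := by rw [e2]; group
  have a3 : w⁻¹ * (t⁻¹ * d * t * d⁻¹) * w ∈ Cy K y := conj_Cy.1 (mul_mem (conj_Cy.1 a2) (inv_mem hd'))
  have a4 : t⁻¹ * d * t * d⁻¹ ∈ (T : Subgroup K) := by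
    rw [show t⁻¹ * d * t * d⁻¹ = t⁻¹ * (d * t * d⁻¹) by group]
    exact mul_mem (inv_mem ht) ((mem_normalizer_iff.1 hdN t).1 ht)
  have a5 : ((t⁻¹ * d * t * d⁻¹ : K) : K ⧸ O) ≠ 1 := fun e => ht1 (Subtype.ext (hf _ ht' (by
    have e' : (t : K ⧸ O)⁻¹ * d * t * (d : K ⧸ O)⁻¹ = 1 := e
    calc (d : K ⧸ O) * t * (d : K ⧸ O)⁻¹ = t * ((t : K ⧸ O)⁻¹ * d * t * (d : K ⧸ O)⁻¹) := by group
      _ = t := by rw [e', mul_one])))
  generalize t⁻¹ * d * t * d⁻¹ = σ at a3 a4 a5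
  have a6 : ((w⁻¹ * σ * w : K) : K ⧸ O) ∉ normalizer ((S : Subgroup (K ⧸ O)) : Set (K ⧸ O)) := fun hm => by
    obtain ⟨j, hj⟩ := S.isPGroup' ⟨_, (hS σ).2 a4⟩
    have hj' : (σ : K ⧸ O) ^ 2 ^ j = 1 := congrArg Subtype.val hj
    have hp : IsPGroup 2 (zpowers ((w⁻¹ * σ * w : K) : K ⧸ O)) := by
      rintro ⟨_, i, rfl⟩
      refine ⟨j, Subtype.ext ?_⟩
      have e : ((w⁻¹ * σ * w : K) : K ⧸ O) ^ 2 ^ j = 1 := by
        change ((w : K ⧸ O)⁻¹ * σ * w) ^ 2 ^ j = 1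
        rw [show (w : K ⧸ O)⁻¹ * σ * w = (w : K ⧸ O)⁻¹ * σ * (w : K ⧸ O)⁻¹⁻¹ by rw [inv_inv], conj_pow, hj']; group
      change (((w⁻¹ * σ * w : K) : K ⧸ O) ^ i) ^ 2 ^ j = 1
      rw [← zpow_natCast, ← zpow_mul, mul_comm, zpow_mul, zpow_natCast, e, one_zpow]
    have hm2 : ((w⁻¹ * σ * w : K) : K ⧸ O) ∈ zpowers ((w⁻¹ * σ * w : K) : K ⧸ O) ⊓ (S : Subgroup (K ⧸ O)) := by
      rw [← hp.inf_normalizer_sylow S]; exact mem_inf.2 ⟨mem_zpowers _, hm⟩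
    have := hL.syl_TI S (g := (w : K ⧸ O)⁻¹) ((hS σ).2 a4) a5 (by rw [inv_inv]; exact hm2.2)
    exact hwn (inv_mem_iff.1 this)
  refine mem_Cy.1 (of_mk (hOC y hy) ?_)
  have htop : (⊤ : Subgroup (K ⧸ O)) ≤ (Cy K y).map (QuotientGroup.mk' O) := by
    rw [← hL.gen S a6]
    refine sup_le ?_ (zpowers_le.2 ⟨_, a3, rfl⟩)
    rintro _ ⟨τ, hτ, rfl⟩
    exact ⟨τ, mem_Cy.2 (hT τ hτ), rfl⟩
  exact htop trivial

theorem ma1 {K Y : Subgroup X} (O : Subgroup K) [O.Normal] (hO : IsPGroup 2 O) (hL : L2e (K ⧸ O))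
    (hY : IsPGroup 2 Y) (hn : K ≤ normalizer (Y : Set X))
    (hOY : ∀ o ∈ O, ∀ y ∈ Y, (o : X) * y = y * o) (T : Sylow 2 K)
    (h1 : ∀ g ∈ normalizer ((T : Subgroup K) : Set K), ∀ y ∈ Y,
      (∀ τ ∈ (T : Subgroup K), (τ : X) * y = y * τ) → ((g : X) * g) * y = y * ((g : X) * g))
    (h2 : ∀ y ∈ Y, ∀ σ ∈ (T : Subgroup K), ∀ τ ∈ (T : Subgroup K),
      (τ : X) * ((σ : X) * y * (σ : X)⁻¹ * y⁻¹) = ((σ : X) * y * (σ : X)⁻¹ * y⁻¹) * τ)
    {x : K} (hx : orderOf x = 3) : ∀ y ∈ Y, (x : X) * y = y * x := by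
  have hc := cen O hO hL hn hOY T h1 h2
  have hOT : O ≤ T := hO.le_sylow_of_normal T
  have cj : ∀ (g : K) (z : X), z ∈ Y → (g : X) * z * (g : X)⁻¹ ∈ Y := fun g z hz =>
    (mem_normalizer_iff.1 (hn g.2) z).1 hz
  let H : Subgroup K :=
    { carrier := {k | ∀ y ∈ Y, ∀ l : K, Commute (l : X) ((k : X) * y * (k : X)⁻¹ * y⁻¹)}
      one_mem' := fun y _ l => by simp
      mul_mem' := fun {a b} ha hb y hy l => by
        have e : ((a * b : K) : X) * y * ((a * b : K) : X)⁻¹ * y⁻¹ =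
            ((a : X) * (b * y * (b : X)⁻¹) * (a : X)⁻¹ * (b * y * (b : X)⁻¹)⁻¹) * (b * y * (b : X)⁻¹ * y⁻¹) := by
          rw [coe_mul]; group
        rw [e]; exact (ha _ (cj b y hy) l).mul_right (hb y hy l)
      inv_mem' := fun {a} ha y hy l => by
        have e : ((a⁻¹ : K) : X) * y * ((a⁻¹ : K) : X)⁻¹ * y⁻¹ =
            ((a : X) * (((a⁻¹ : K) : X) * y * ((a⁻¹ : K) : X)⁻¹) * (a : X)⁻¹ *
              (((a⁻¹ : K) : X) * y * ((a⁻¹ : K) : X)⁻¹)⁻¹)⁻¹ := by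
          rw [coe_inv]; group
        rw [e]; exact (ha _ (cj a⁻¹ y hy) l).inv_right }
  have hHn : H.Normal := ⟨fun a ha g y hy l => by
    have c := ha _ (cj g⁻¹ y hy)
    have e : ((g * a * g⁻¹ : K) : X) * y * ((g * a * g⁻¹ : K) : X)⁻¹ * y⁻¹ = (g : X) * ((a : X) *
        (((g⁻¹ : K) : X) * y * ((g⁻¹ : K) : X)⁻¹) * (a : X)⁻¹ * (((g⁻¹ : K) : X) * y * ((g⁻¹ : K) : X)⁻¹)⁻¹) * (g : X)⁻¹ := by
      simp only [coe_mul, coe_inv]; group
    rw [e, (c g).eq, mul_inv_cancel_right]; exact c l⟩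
  have hTH : (T : Subgroup K) ≤ H := fun σ hσ y hy l =>
    hc l _ (mul_mem (cj σ y hy) (inv_mem hy)) (h2 y hy σ hσ)
  have := hL.simple.1
  let S : Sylow 2 (K ⧸ O) := T.mapSurjective (QuotientGroup.mk'_surjective O)
  have htop : H.map (QuotientGroup.mk' O) = ⊤ := by
    refine ((hHn.map _ (QuotientGroup.mk'_surjective O)).eq_bot_or_eq_top).resolve_left fun e => ?_
    have h4 := hL.syl_card S
    have : (S : Subgroup (K ⧸ O)) = ⊥ := le_bot_iff.1 (e ▸ map_mono hTH)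
    rw [this, card_bot] at h4; omega
  intro y hy
  have hxH : x ∈ H := of_mk (hOT.trans hTH) (htop ▸ mem_top _)
  have c := (hxH y hy x).eq
  have h3 : (x : X) ^ 3 = 1 := by rw [← coe_pow, ← hx, pow_orderOf_eq_one, coe_one]
  obtain ⟨j, hj⟩ := hY ⟨_, mul_mem (cj x y hy) (inv_mem hy)⟩
  have hj' : ((x : X) * y * (x : X)⁻¹ * y⁻¹) ^ 2 ^ j = 1 := congrArg Subtype.val hj
  obtain ⟨z, hz⟩ : ∃ z, z = (x : X) * y * (x : X)⁻¹ * y⁻¹ := ⟨_, rfl⟩
  rw [← hz] at c hj'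
  have e1 : (x : X) * y = z * y * x := by rw [hz]; group
  have e3 : z ^ 3 = 1 := by
    have k : ∀ n : ℕ, (x : X) ^ n * y = z ^ n * y * (x : X) ^ n := fun n => by
      induction n with
      | zero => simp
      | succ n ih =>
        have c' : (x : X) * z ^ n = z ^ n * x := (Commute.pow_right c n).eq
        calc (x : X) ^ (n + 1) * y = x * ((x : X) ^ n * y) := by rw [pow_succ', mul_assoc]
          _ = (x * z ^ n) * y * (x : X) ^ n := by rw [ih]; group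
          _ = z ^ n * (x * y) * (x : X) ^ n := by rw [c']; group
          _ = _ := by rw [e1, pow_succ z, pow_succ' (x : X)]; simp only [mul_assoc]
    have := k 3
    rw [h3, one_mul, mul_one] at this
    exact mul_eq_right.1 this.symm
  have : z = 1 := orderOf_eq_one_iff.1 (Nat.eq_one_of_dvd_coprimes
    (Nat.Coprime.pow_left j (by norm_num : Nat.Coprime 2 3)) (orderOf_dvd_of_pow_eq_one hj') (orderOf_dvd_of_pow_eq_one e3))
  rw [e1, this, one_mul]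

end CL.Gg.MA1x
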