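import Cfsg.Agent.BLK.Gg.MA

/-!
Consequences of `ma`: `K = Q⟨x⟩` is normal in `M`, `Q` is its set of 2-elements.
-/

set_option autoImplicit false

namespace CL.Gg

open Subgroup Cfsg CL.MSS

universe u v

variable {X : Type u} {V : Type v} [Group X] [Finite X] [AddCommGroup V] [Finite V]
  [DistribMulAction X V]

namespace MA3

open scoped commutatorElement Pointwise

omit [Finite X] in
theorem le {A : Subgroup X} {x : X} (hn : x ∈ normalizer (A : Set X)) : ⁅A, zpowers x⁆ ≤ A := by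
  refine commutator_le.2 fun a ha z hz => ?_
  have h1 : z ∈ normalizer (A : Set X) := (zpowers_le.2 hn) hz
  have h2 : z * a⁻¹ * z⁻¹ ∈ A := (mem_normalizer_iff.1 h1 _).1 (A.inv_mem ha)
  have e : ⁅a, z⁆ = a * (z * a⁻¹ * z⁻¹) := by simp only [commutatorElement_def, mul_assoc]
  rw [e]
  exact A.mul_mem ha h2

omit [Finite X] in
theorem dec {A : Subgroup X} {x y : X} (hy : y ∈ ⁅A, zpowers x⁆ ⊔ zpowers x) :
    ∃ q ∈ ⁅A, zpowers x⁆, ∃ z ∈ zpowers x, q * z = y := by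
  have h := coe_mul_of_right_le_normalizer_left ⁅A, zpowers x⁆ (zpowers x)
    (normalizer_commutator_ge_right A (zpowers x))
  have h2 : y ∈ ((⁅A, zpowers x⁆ ⊔ zpowers x : Subgroup X) : Set X) := hy
  rw [h] at h2
  obtain ⟨q, hq, z, hz, e⟩ := h2
  exact ⟨q, hq, z, hz, e⟩

end MA3

/-- `m x m⁻¹ ∈ K = Q⟨x⟩` has order 3, so is `q x` or `q x⁻¹`. -/
theorem Md.ma_x (ih : ∀ n, IH.{u, v} n) (h : Md X V) (hO : pCore 2 X = ⊥) {t x : X} (ht : orderOf t = 2)
    (hx : orderOf x = 3) (hn : x ∈ normalizer (At V t : Set X)) (hQ : ⁅At V t, zpowers x⁆ ≠ ⊥)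
    {y : X} (hy : orderOf y = 3) (hm : y ∈ normalizer (At V t : Set X)) :
    y * x⁻¹ ∈ ⁅At V t, zpowers x⁆ ∨ y * x ∈ ⁅At V t, zpowers x⁆ := by
  classical
  have h1 := mem_X3 hm hy
  rw [h.ma ih hO ht hx hn hQ] at h1
  obtain ⟨q, hq, z, hz, rfl⟩ := MA3.dec h1
  rw [mem_zpowers_iff_mem_range_orderOf, hx, Finset.mem_image] at hz
  obtain ⟨i, hi, rfl⟩ := hz
  rw [Finset.mem_range] at hi
  interval_cases i
  · rw [pow_zero, mul_one] at hy
    have := orderOf_dvd_of_pow_eq_one (h.At_sq hO ht (MA3.le hn hq))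
    rw [hy] at this
    omega
  · left
    rwa [pow_one, mul_inv_cancel_right]
  · right
    rwa [mul_assoc, ← pow_succ, show x ^ (2 + 1) = 1 by have := pow_orderOf_eq_one x; rwa [hx] at this,
      mul_one]

/-- `m •ᶜ Q = ⁅A, ⟨m x m⁻¹⟩⁆ = ⁅A, ⟨x⟩⁆` as `q x^±1` acts on the abelian `A ≥ Q` as `x^±1`. -/
theorem Md.ma_norm (ih : ∀ n, IH.{u, v} n) (h : Md X V) (hO : pCore 2 X = ⊥) {t x : X} (ht : orderOf t = 2)
    (hx : orderOf x = 3) (hn : x ∈ normalizer (At V t : Set X)) (hQ : ⁅At V t, zpowers x⁆ ≠ ⊥) :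
    normalizer (At V t : Set X) ≤ normalizer ((⁅At V t, zpowers x⁆ : Subgroup X) : Set X) := by
  have key : ∀ m ∈ normalizer (At V t : Set X), ∀ q ∈ ⁅At V t, zpowers x⁆,
      m * q * m⁻¹ ∈ ⁅At V t, zpowers x⁆ := by
    intro m hm
    change ⁅At V t, zpowers x⁆ ≤ (⁅At V t, zpowers x⁆).comap (MulAut.conj m).toMonoidHom
    refine commutator_le.2 fun a ha z hz => ?_
    have h1 : m * x * m⁻¹ ∈ X3 (normalizer (At V t : Set X)) :=
      mem_X3 (mul_mem (mul_mem hm hn) (Subgroup.inv_mem _ hm))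
        (((MulAut.conj m).orderOf_eq x).trans hx)
    rw [h.ma ih hO ht hx hn hQ] at h1
    have h2 : zpowers x ≤ (⁅At V t, zpowers x⁆ ⊔ zpowers x).comap (MulAut.conj m).toMonoidHom :=
      zpowers_le.2 h1
    obtain ⟨q, hq, w, hw, e⟩ := MA3.dec (h2 hz)
    have ha' : (MulAut.conj m).toMonoidHom a ∈ At V t := (mem_normalizer_iff.1 hm _).1 ha
    rw [mem_comap, map_commutatorElement, ← e]
    generalize (MulAut.conj m).toMonoidHom a = b at ha'
    have h3 := commutator_mem_commutator ha' hw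
    have c1 := h.At_comm hO ht ha' (MA3.le hn hq)
    have c2 := h.At_comm hO ht (MA3.le hn hq) (MA3.le hn h3)
    rw [commutatorElement_def] at h3 c2 ⊢
    have e2 : b * (q * w) * b⁻¹ * (q * w)⁻¹ = b * w * b⁻¹ * w⁻¹ := by
      calc b * (q * w) * b⁻¹ * (q * w)⁻¹ = (b * q) * (w * b⁻¹ * w⁻¹) * q⁻¹ := by group
        _ = q * (b * w * b⁻¹ * w⁻¹) * q⁻¹ := by rw [c1]; group
        _ = _ := by rw [c2, mul_inv_cancel_right]
    rw [e2]
    exact h3
  intro m hm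
  refine mem_normalizer_iff.2 fun q => ⟨key m hm q, fun hq => ?_⟩
  have := key m⁻¹ (Subgroup.inv_mem _ hm) _ hq
  rwa [inv_inv, ← mul_assoc, ← mul_assoc, inv_mul_cancel, one_mul, inv_mul_cancel_right] at this

/-- `y = q x^±1` acts on `Q` as `x^±1`; `q2_fpf`. -/
theorem Md.ma_fpf (ih : ∀ n, IH.{u, v} n) (h : Md X V) (hO : pCore 2 X = ⊥) {t x : X} (ht : orderOf t = 2)
    (hx : orderOf x = 3) (hn : x ∈ normalizer (At V t : Set X)) (hQ : ⁅At V t, zpowers x⁆ ≠ ⊥)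
    {y : X} (hy : orderOf y = 3) (hm : y ∈ normalizer (At V t : Set X)) {a : X}
    (ha : a ∈ ⁅At V t, zpowers x⁆) (hc : y * a = a * y) : a = 1 := by
  refine h.q2_fpf hO (h.At_pg hO ht) hx hn ha ?_
  have hc' : Commute y a := hc
  rcases h.ma_x ih hO ht hx hn hQ hy hm with hq | hq
  · have c : Commute (y * x⁻¹) a := h.At_comm hO ht (MA3.le hn hq) (MA3.le hn ha)
    have := c.inv_left.mul_left hc'
    rwa [mul_inv_rev, inv_inv, inv_mul_cancel_right] at this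
  · have c : Commute (y * x) a := h.At_comm hO ht (MA3.le hn hq) (MA3.le hn ha)
    have := hc'.inv_left.mul_left c
    rwa [inv_mul_cancel_left] at this

end CL.Gg
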