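import Cfsg.Agent.BLK.Gg.Defs

/-!
A real element of order `3` centralizes no Sylow `2`-subgroup.
-/

set_option autoImplicit false

namespace CL.Gg.Noc

open Subgroup

universe u

variable {X : Type u} [Group X]

/-- The elements centralizing or inverting `x`. -/
def ext (x : X) : Subgroup X where
  carrier := {g | g * x * g⁻¹ = x ∨ g * x * g⁻¹ = x⁻¹}
  one_mem' := Or.inl (by simp)
  mul_mem' := by
    intro a b ha hb
    have e : a * b * x * (a * b)⁻¹ = a * (b * x * b⁻¹) * a⁻¹ := by group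
    have ei : a * x⁻¹ * a⁻¹ = (a * x * a⁻¹)⁻¹ := by group
    simp only [Set.mem_setOf_eq] at ha hb ⊢
    rw [e]
    rcases hb with hb | hb <;> rw [hb]
    · exact ha
    · rw [ei]
      rcases ha with ha | ha <;> rw [ha]
      · exact Or.inr rfl
      · exact Or.inl (inv_inv x)
  inv_mem' := by
    intro a ha
    simp only [Set.mem_setOf_eq] at ha ⊢
    rcases ha with ha | ha
    · left
      calc a⁻¹ * x * a⁻¹⁻¹ = a⁻¹ * (a * x * a⁻¹) * a⁻¹⁻¹ := by rw [ha]
        _ = x := by group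
    · right
      have : x = (a * x * a⁻¹)⁻¹ := by rw [ha, inv_inv]
      calc a⁻¹ * x * a⁻¹⁻¹ = a⁻¹ * (a * x * a⁻¹)⁻¹ * a⁻¹⁻¹ := by rw [← this]
        _ = x⁻¹ := by group

theorem mem_ext {x g : X} : g ∈ ext x ↔ g * x * g⁻¹ = x ∨ g * x * g⁻¹ = x⁻¹ := Iff.rfl

theorem mem_cent {x g : X} : g ∈ centralizer ({x} : Set X) ↔ g * x * g⁻¹ = x := by
  rw [mem_centralizer_singleton_iff, mul_inv_eq_iff_eq_mul]

theorem ne_inv {x : X} (hx : orderOf x = 3) : x ≠ x⁻¹ := by
  intro h
  have h2 : x ^ 2 = 1 := by rw [pow_two]; nth_rewrite 2 [h]; exact mul_inv_cancel x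
  have := orderOf_dvd_of_pow_eq_one h2
  rw [hx] at this
  omega

theorem relIndex_two {x s : X} (hx : orderOf x = 3) (hi : s * x * s⁻¹ = x⁻¹) :
    (centralizer ({x} : Set X)).relIndex (ext x) = 2 := by
  have hne := ne_inv hx
  rw [relIndex, index_eq_two_iff]
  refine ⟨⟨s, Or.inr hi⟩, fun b => ?_⟩
  obtain ⟨b, hb⟩ := b
  simp only [mem_subgroupOf, coe_mul, mem_cent]
  have e : b * s * x * (b * s)⁻¹ = (b * x * b⁻¹)⁻¹ := by
    calc b * s * x * (b * s)⁻¹ = b * (s * x * s⁻¹) * b⁻¹ := by group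
      _ = (b * x * b⁻¹)⁻¹ := by rw [hi]; group
  rw [e]
  rcases hb with hb | hb <;> rw [hb]
  · exact Or.inr ⟨rfl, fun h => hne h.symm⟩
  · exact Or.inl ⟨inv_inv x, fun h => hne h.symm⟩

/-- A real element of order `3` centralizes no Sylow `2`-subgroup. -/
theorem nocent [Finite X] {x s : X} (hx : orderOf x = 3) (hi : s * x * s⁻¹ = x⁻¹) (T : Sylow 2 X) :
    x ∉ centralizer ((T : Subgroup X) : Set X) := by
  intro hc
  have hT : (T : Subgroup X) ≤ centralizer ({x} : Set X) := by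
    intro t ht
    rw [mem_centralizer_singleton_iff]
    exact (mem_centralizer_iff.1 hc t ht)
  have hle : centralizer ({x} : Set X) ≤ ext x := fun g hg => Or.inl (mem_cent.1 hg)
  have h1 := relIndex_mul_index hle
  rw [relIndex_two hx hi] at h1
  have h2 : (centralizer ({x} : Set X)).index ∣ (T : Subgroup X).index := index_dvd_of_le hT
  exact T.not_dvd_index ((Dvd.intro _ h1).trans h2)

end CL.Gg.Noc
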