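import Cfsg.Agent.BLK.Gg.Defs

/-!
An element of order `3` centralizes every abelian subgroup of odd order it normalizes (under `Md`).
-/

set_option autoImplicit false

namespace CL.Gg.Odd2

open Subgroup Cfsg

universe u v

variable {X : Type u} {V : Type v} [Group X] [AddCommGroup V] [DistribMulAction X V]

theorem zero_of (h : Md X V) {a b : X} (ho : Odd (orderOf (a⁻¹ * b))) (hab : a ≠ b) {w : V}
    (hw : a • w + b • w = 0) : w = 0 := by
  refine h.fp _ ho (fun e => hab (inv_mul_eq_one.1 e)) w ?_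
  have h1 : b • w = a • w := by
    have h2 := h.two (a • w)
    exact add_left_cancel (hw.trans h2.symm)
  rw [mul_smul, h1, inv_smul_smul]

theorem or_of (h : Md X V) {a b c d : X} (h1 : Odd (orderOf (a⁻¹ * b))) (h2 : Odd (orderOf (c⁻¹ * d)))
    (he : ∀ v : V, a • (c • v + d • v) + b • (c • v + d • v) = 0) : a = b ∨ c = d := by
  by_contra hn
  rw [not_or] at hn
  obtain ⟨v, hv⟩ := h.nt
  exact hv (zero_of h h2 hn.2 (zero_of h h1 hn.1 (he v)))

theorem inv_smul (h : Md X V) {x : X} (hx : orderOf x = 3) (v : V) : x⁻¹ • v = x • v + v := by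
  have h3 : x ^ 3 = 1 := hx ▸ pow_orderOf_eq_one x
  have hne : x ≠ 1 := by rintro rfl; simp at hx
  have hi : x * x = x⁻¹ := by rw [eq_inv_iff_mul_eq_one, ← h3, pow_succ, pow_two]
  have h0 : x⁻¹ • v + (x • v + v) = 0 := by
    refine h.fp x (by rw [hx]; decide) hne _ ?_
    rw [smul_add, smul_add, smul_inv_smul, ← mul_smul, hi]; abel
  have h2 := h.two (x • v + v)
  exact add_right_cancel (h0.trans h2.symm)

theorem odd_of_cube {g : X} (h : g ^ 3 = 1) : Odd (orderOf g) :=
  Odd.of_dvd_nat (by decide : Odd 3) (orderOf_dvd_of_pow_eq_one h)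

/-- the abelian version -/
theorem cent_ab (h : Md X V) (R : Subgroup X) (ho : ∀ a ∈ R, Odd (orderOf a)) (hc : ∀ a ∈ R, ∀ b ∈ R, a * b = b * a)
    {x : X} (hx : orderOf x = 3) (hn : x ∈ normalizer (R : Set X)) : x ∈ centralizer (R : Set X) := by
  rw [mem_centralizer_iff]
  intro a ha
  have ha : a ∈ R := ha
  obtain ⟨y, hy⟩ : ∃ y, y = a * x * a⁻¹ := ⟨_, rfl⟩
  have oy : orderOf y = 3 := by
    rw [hy, ← hx]; exact (MulAut.conj a).orderOf_eq x
  have x3 : x ^ 3 = 1 := hx ▸ pow_orderOf_eq_one x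
  have y3 : y ^ 3 = 1 := oy ▸ pow_orderOf_eq_one y
  have hc1 : x⁻¹ * y ∈ R := by
    have : x⁻¹ * a * x ∈ R := by
      have := (mem_normalizer_iff.1 (inv_mem hn) a).1 ha
      rwa [inv_inv] at this
    rw [hy, show x⁻¹ * (a * x * a⁻¹) = x⁻¹ * a * x * a⁻¹ by group]
    exact mul_mem this (inv_mem ha)
  have hc2 : y * x⁻¹ ∈ R := by
    have : x * a⁻¹ * x⁻¹ ∈ R := (mem_normalizer_iff.1 hn a⁻¹).1 (inv_mem ha)
    rw [hy, show a * x * a⁻¹ * x⁻¹ = a * (x * a⁻¹ * x⁻¹) by group]
    exact mul_mem ha this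
  have fin : x = y → a * x = x * a := fun e => by
    rw [hy] at e
    exact (mul_inv_eq_iff_eq_mul.1 e.symm)
  have two := h.two
  -- the trace identity
  have tr : ∀ v : V, (x⁻¹ * y) • v + (x⁻¹ * y)⁻¹ • v = (y * x⁻¹) • v + (y * x⁻¹)⁻¹ • v := fun v => by
    rw [mul_inv_rev, mul_inv_rev, inv_inv]
    simp only [mul_smul, inv_smul h hx, inv_smul h oy, smul_add]
    abel
  have key := or_of h (a := x⁻¹ * y) (b := y * x⁻¹) (c := y * x⁻¹) (d := (x⁻¹ * y)⁻¹)
    (ho _ (mul_mem (inv_mem hc1) hc2)) (ho _ (mul_mem (inv_mem hc2) (inv_mem hc1))) (fun v => by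
      have e1 := congrArg (fun w => (y * x⁻¹) • w) (tr v)
      simp only [smul_add, smul_inv_smul] at e1
      have e2 : (x⁻¹ * y) • (y * x⁻¹) • v = (y * x⁻¹) • (x⁻¹ * y) • v := by
        rw [← mul_smul, hc _ hc1 _ hc2, mul_smul]
      rw [smul_add, smul_add, smul_inv_smul, e2]
      have e3 := two ((y * x⁻¹) • (y * x⁻¹) • v + v)
      rw [← e3]
      nth_rewrite 2 [← e1]
      abel)
  rcases key with e | e
  · have cm : x * y = y * x := by
      have : x * (x⁻¹ * y) * x = x * (y * x⁻¹) * x := by rw [e]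
      rw [show x * (x⁻¹ * y) * x = y * x by group, show x * (y * x⁻¹) * x = x * y by group] at this
      exact this.symm
    have cm' : Commute x y := cm
    have k2 := or_of h (a := x) (b := y) (c := x) (d := y⁻¹) (ho _ hc1)
      (odd_of_cube (by rw [(cm'.inv_inv).mul_pow, inv_pow, inv_pow, x3, y3]; simp)) (fun v => by
        have hi : x • x • v = x • v + v := by
          rw [← inv_smul h hx, ← mul_smul]
          congr 1
          rw [eq_inv_iff_mul_eq_one, ← x3, pow_succ, pow_two]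
        have e2 : x • y • v = y • x • v := by rw [← mul_smul, cm, mul_smul]
        rw [smul_add, smul_add, smul_inv_smul, inv_smul h oy, smul_add, hi, e2]
        have e3 := two (x • v + v + y • x • v)
        rw [← e3]; abel)
    rcases k2 with e' | e'
    · exact fin e'
    · have : x⁻¹ * y = x := by
        have hy' : y = x⁻¹ := by rw [e', inv_inv]
        rw [hy', ← mul_inv_rev, inv_eq_iff_mul_eq_one, ← x3, pow_succ, pow_two]
      rw [this] at hc1
      exact hc _ ha _ hc1
  · apply fin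
    have e1 : y * y = x * x := by
      have : y * (y * x⁻¹) * x = y * (x⁻¹ * y)⁻¹ * x := by rw [e]
      rwa [show y * (y * x⁻¹) * x = y * y by group, show y * (x⁻¹ * y)⁻¹ * x = x * x by group] at this
    have ex : x = (x * x) * (x * x) := by
      rw [show (x * x) * (x * x) = x ^ 3 * x by simp only [pow_succ, pow_zero, one_mul, mul_assoc], x3, one_mul]
    have ey : y = (y * y) * (y * y) := by
      rw [show (y * y) * (y * y) = y ^ 3 * y by simp only [pow_succ, pow_zero, one_mul, mul_assoc], y3, one_mul]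
    rw [ex, ey, e1]

theorem cent3 (h : Md X V) {r : ℕ} [Fact r.Prime] (hr : r ≠ 2) (R : Subgroup X)
    (hR : IsPGroup r R) (hc : IsCyclic R) {x : X} (hx : orderOf x = 3) (hn : x ∈ normalizer (R : Set X)) :
    x ∈ centralizer (R : Set X) := by
  refine cent_ab h R (fun a ha => ?_) (fun a ha b hb => ?_) hx hn
  · obtain ⟨k, hk⟩ := hR ⟨a, ha⟩
    have h1 : a ^ r ^ k = 1 := congrArg Subtype.val hk
    exact Odd.of_dvd_nat (((Fact.out : r.Prime).odd_of_ne_two hr).pow) (orderOf_dvd_of_pow_eq_one h1)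
  · have := (IsCyclic.isMulCommutative (α := R)).is_comm.comm ⟨a, ha⟩ ⟨b, hb⟩
    exact congrArg Subtype.val this

end CL.Gg.Odd2
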