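import Cfsg.Agent.BLK.Gg.Defs2
import Cfsg.Agent.BLK.Gg.LJ

/-!
`Π`, step 1: `E` is strongly closed. `N := normalizer E ≠ ⊤` (simple, `E ≠ ⊥`, `O₂ = ⊥`), `x ∈ N`, `K := X3 N`.
-/

set_option autoImplicit false

namespace CL.Gg

open Subgroup Cfsg CL.MSS

universe u v

variable {X : Type u} {V : Type v} [Group X] [Finite X] [AddCommGroup V] [Finite V]
  [DistribMulAction X V]

variable {x : X} {E : Subgroup X}

omit [Finite X] [Finite V] in
theorem Pi1x.xN (c : Cf V x E) : x ∈ normalizer (E : Set X) :=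
  centralizer_le_normalizer _ fun _ he => (mem_centralizer_singleton_iff.1 (c.le he))

omit [Finite X] [Finite V] in
theorem Pi1x.ne_top (c : Cf V x E) : normalizer (E : Set X) ≠ ⊤ := fun h => by
  have := c.simple
  rcases (normalizer_eq_top_iff.1 h).eq_bot_or_eq_top with e | e
  · exact c.ne e
  · obtain ⟨k, hk⟩ := c.pg ⟨x, e ▸ mem_top x⟩
    have : orderOf x ∣ 2 ^ k := orderOf_dvd_of_pow_eq_one (congrArg Subtype.val hk)
    rw [c.ox] at this
    exact absurd (Nat.prime_three.dvd_of_dvd_pow this) (by decide)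

omit [Finite V] in
theorem Pi1x.lt (c : Cf V x E) : Nat.card (normalizer (E : Set X)) < Nat.card X :=
  lt_of_le_of_ne (card_le_card_group _) fun h => Pi1x.ne_top c (eq_top_of_card_eq _ h)

omit [Finite X] in
theorem Pi1x.zp {s : X} (hs : ∃ k : ℕ, s ^ 2 ^ k = 1) : IsPGroup 2 (zpowers s) := by
  obtain ⟨k, hk⟩ := hs
  rintro ⟨_, n, rfl⟩
  refine ⟨k, Subtype.ext ?_⟩
  change (s ^ n) ^ 2 ^ k = 1
  rw [← zpow_natCast, ← zpow_mul, mul_comm, zpow_mul, zpow_natCast, hk, one_zpow]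

/-- `x3_sub` for `H = N`. -/
theorem Cf.cases (c : Cf V x E) :
    X3 (normalizer (E : Set X)) = zpowers x ∨ L2o (X3 (normalizer (E : Set X))) := by
  exact c.md.x3_sub c.ih c.noA (Pi1x.lt c) (Pi1x.xN c) c.ox

/-- `NoA`. -/
theorem Cf.cent (c : Cf V x E) : X3 (normalizer (E : Set X)) ≤ centralizer (E : Set X) := by
  exact (closure_le _).2 fun y hy => c.noA y hy.2 E c.pg hy.1

/-- `E ⊔ ⟨s⟩` is a 2-group in `C(x)`; `max`. -/
theorem Cf.mem_of (c : Cf V x E) {s : X} (hs : ∃ k : ℕ, s ^ 2 ^ k = 1) (hn : s ∈ normalizer (E : Set X))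
    (hc : s * x = x * s) : s ∈ E := by
  have := c.max (E ⊔ zpowers s) (c.pg.to_sup_of_normal_left' (Pi1x.zp hs) (zpowers_le.2 hn)) le_sup_left
    (sup_le c.le (zpowers_le.2 (mem_centralizer_singleton_iff.2 hc)))
  rw [← this]
  exact mem_sup_right (mem_zpowers s)

/-- `L2o.inner` in `Y = N` (`K.subgroupOf N`): `s = l c`, `c` centralizes `K ∋ x, l`, is a 2-element of `N`, so `c ∈ E` (`mem_of`). -/
theorem Cf.dec (c : Cf V x E) (hL : L2o (X3 (normalizer (E : Set X)))) {s : X}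
    (hs : ∃ k : ℕ, s ^ 2 ^ k = 1) (hn : s ∈ normalizer (E : Set X)) :
    ∃ e ∈ E, ∃ l ∈ X3 (normalizer (E : Set X)), l ^ 2 = 1 ∧ s = e * l := by
  have hN : ((X3 (normalizer (E : Set X))).subgroupOf (normalizer (E : Set X))).Normal :=
    normal_subgroupOf_of_le_normalizer (le_normalizer.trans (normalizer_le_X3 _))
  obtain ⟨k, hk⟩ := hs
  obtain ⟨l, hl, ⟨j, hj⟩, hc⟩ := L2o.inner ((X3 (normalizer (E : Set X))).subgroupOf (normalizer (E : Set X)))
    (L2o.of_equiv (subgroupOfEquivOfLe (X3_le _)) hL) (u := ⟨s, hn⟩) ⟨k, Subtype.ext hk⟩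
  have hl' : (l : X) ∈ X3 (normalizer (E : Set X)) := hl
  have hj' : (l : X) ^ 2 ^ j = 1 := congrArg Subtype.val hj
  have hc' : ∀ y ∈ X3 (normalizer (E : Set X)), y * ((l : X)⁻¹ * s) = (l : X)⁻¹ * s * y := fun y hy =>
    congrArg Subtype.val (hc ⟨y, X3_le _ hy⟩ hy)
  have e1 : s = (l : X)⁻¹ * s * l := by rw [← hc' l hl', mul_inv_cancel_left]
  have hls : Commute (l : X)⁻¹ s := by
    refine Commute.inv_left ?_
    change (l : X) * s = s * l
    conv_lhs => rw [e1]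
    group
  refine ⟨(l : X)⁻¹ * s, c.mem_of ⟨j + k, ?_⟩ (mul_mem (inv_mem l.2) hn)
    (hc' x (mem_X3 (Pi1x.xN c) c.ox)).symm, l, hl', ?_, e1⟩
  · rw [hls.mul_pow, inv_pow, pow_add, pow_mul, hj', one_pow, inv_one, one_mul, mul_comm, pow_mul, hk, one_pow]
  · exact congrArg Subtype.val (hL.l2e.sq (s := ⟨l, hl'⟩) ⟨j, Subtype.ext hj'⟩)

/-- `K = ⟨x⟩`: `s` normalizes `⟨x⟩` (`normalizer_le_X3`), `mem_of`. `L2o K`: `dec`, `l ≠ 1` inverts some `y ∈ K` (`L2e.inv_of_inv`), `e` centralizes `y` (`cent`). -/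
theorem Cf.inv (c : Cf V x E) {s : X} (hs : ∃ k : ℕ, s ^ 2 ^ k = 1) (hn : s ∈ normalizer (E : Set X))
    (hE : s ∉ E) : ∃ y : X, orderOf y = 3 ∧ s * y * s⁻¹ = y⁻¹ := by
  rcases c.cases with h | h
  · have h1 := normalizer_le_X3 _ (le_normalizer hn)
    rw [h] at h1
    have h2 : s * x * s⁻¹ ∈ zpowers x := (mem_normalizer_iff.1 h1 x).1 (mem_zpowers x)
    classical
    rw [mem_zpowers_iff_mem_range_orderOf, c.ox, Finset.mem_image] at h2
    obtain ⟨i, hi, e⟩ := h2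
    rw [Finset.mem_range] at hi
    have h3 : x ^ 3 = 1 := c.ox ▸ pow_orderOf_eq_one x
    interval_cases i
    · rw [pow_zero, eq_comm, conj_eq_one_iff] at e
      have := c.ox
      rw [e, orderOf_one] at this
      omega
    · rw [pow_one] at e
      exact absurd (c.mem_of hs hn (mul_inv_eq_iff_eq_mul.1 e.symm)) hE
    · refine ⟨x, c.ox, e.symm.trans (eq_inv_of_mul_eq_one_left ?_)⟩
      rw [← pow_succ, h3]
  · obtain ⟨e, he, l, hl, h2, rfl⟩ := c.dec h hs hn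
    have h1 : (⟨l, hl⟩ : X3 (normalizer (E : Set X))) ≠ 1 := fun h1 => hE (by
      rw [show l = 1 from congrArg Subtype.val h1, mul_one]; exact he)
    obtain ⟨y, hy, hi⟩ := h.l2e.inv_of_inv (s := ⟨l, hl⟩) (orderOf_eq_prime (Subtype.ext h2) h1)
    have hi' : l * (y : X) * l⁻¹ = (y : X)⁻¹ := congrArg Subtype.val hi
    have hc : e * (y : X)⁻¹ = (y : X)⁻¹ * e := c.cent (inv_mem y.2) e he
    refine ⟨y, (orderOf_coe y).trans hy, ?_⟩
    calc _ = e * (l * (y : X) * l⁻¹) * e⁻¹ := by group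
      _ = _ := by rw [hi', hc, mul_inv_cancel_right]

/-- `g e g⁻¹` centralizes `g x g⁻¹`; `inv` and `lj`. -/
theorem Cf.sc (c : Cf V x E) {e g : X} (he : e ∈ E) (hg : g * e * g⁻¹ ∈ normalizer (E : Set X)) :
    g * e * g⁻¹ ∈ E := by
  by_contra hE
  obtain ⟨k, hk⟩ := c.pg ⟨e, he⟩
  have hk' : e ^ 2 ^ k = 1 := congrArg Subtype.val hk
  have hs : ∃ k : ℕ, (g * e * g⁻¹) ^ 2 ^ k = 1 := ⟨k, by rw [conj_pow, hk', mul_one, mul_inv_cancel]⟩
  obtain ⟨y, hy, hi⟩ := c.inv hs hg hE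
  have hc : e * x = x * e := mem_centralizer_singleton_iff.1 (c.le he)
  refine c.md.lj c.ih c.noA (x := g * x * g⁻¹) (((MulAut.conj g).orderOf_eq x).trans c.ox) hy hs ?_ hi
  calc _ = g * (e * x) * e⁻¹ * g⁻¹ := by group
    _ = _ := by rw [hc]; group

/-- `T ≥ E` Sylow, `X₁ := T ⊓ N`. `g ∈ T` normalizing `X₁` has `g E g⁻¹ ≤ X₁ ≤ N`, so `≤ E` (`sc`), `g ∈ N`. Normalizer condition in `T`: `X₁ = T`. -/
theorem Cf.syl (c : Cf V x E) (T : Sylow 2 X) (hT : E ≤ T) :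
    (T : Subgroup X) ≤ normalizer (E : Set X) := by
  have := T.isPGroup'.isNilpotent
  by_contra hne
  have hlt : (normalizer (E : Set X)).subgroupOf (T : Subgroup X) < ⊤ :=
    lt_top_iff_ne_top.2 fun h => hne (subgroupOf_eq_top.1 h)
  obtain ⟨g, hg, hgn⟩ := SetLike.exists_of_lt (Group.normalizerCondition_of_isNilpotent _ hlt)
  refine hgn (mem_subgroupOf.2 (mem_normalizer_fintype fun e he => c.sc he ?_))
  exact (mem_normalizer_iff.1 hg ⟨e, hT he⟩).1 (mem_subgroupOf.2 (le_normalizer he))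

end CL.Gg
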