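import Cfsg.Agent.BLK.Gg.Defs

/-!
Elements of order 2 and 3 of `SL₂(2^k)`: side file of `SLa`.
-/

set_option autoImplicit false

namespace CL.Gg.SLa2

open Matrix

universe u

section Mat

variable {F : Type} [Field F] [CharP F 2]

theorem two0 : (2 : F) = 0 := CharTwo.two_eq_zero

omit [CharP F 2] in
theorem det1 (s : SpecialLinearGroup (Fin 2) F) : s 0 0 * s 1 1 - s 0 1 * s 1 0 = 1 := by
  have := s.det_coe
  rwa [Matrix.det_fin_two] at this

omit [CharP F 2] in
theorem ext2 {s t : SpecialLinearGroup (Fin 2) F} (h00 : s 0 0 = t 0 0) (h01 : s 0 1 = t 0 1)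
    (h10 : s 1 0 = t 1 0) (h11 : s 1 1 = t 1 1) : s = t := by
  ext i j
  fin_cases i <;> fin_cases j
  · exact h00
  · exact h01
  · exact h10
  · exact h11

omit [CharP F 2] in
theorem mul_ap (s t : SpecialLinearGroup (Fin 2) F) (i j : Fin 2) :
    (s * t) i j = s i 0 * t 0 j + s i 1 * t 1 j := by
  simp [Matrix.mul_apply, Fin.sum_univ_two]

omit [CharP F 2] in
theorem one00 : (1 : SpecialLinearGroup (Fin 2) F) 0 0 = 1 := by simp
omit [CharP F 2] in
theorem one01 : (1 : SpecialLinearGroup (Fin 2) F) 0 1 = 0 := by simp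
omit [CharP F 2] in
theorem one10 : (1 : SpecialLinearGroup (Fin 2) F) 1 0 = 0 := by simp
omit [CharP F 2] in
theorem one11 : (1 : SpecialLinearGroup (Fin 2) F) 1 1 = 1 := by simp

/-- the trace -/
def tr (s : SpecialLinearGroup (Fin 2) F) : F := s 0 0 + s 1 1

theorem tr_sq (s : SpecialLinearGroup (Fin 2) F) : tr (s * s) = tr s ^ 2 := by
  simp only [tr, mul_ap]
  linear_combination (s 0 1 * s 1 0 - s 0 0 * s 1 1) * (two0 (F := F))

theorem tr_one : tr (1 : SpecialLinearGroup (Fin 2) F) = 0 := by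
  simp only [tr, one00, one11]
  linear_combination (two0 (F := F))

theorem tr_pow (s : SpecialLinearGroup (Fin 2) F) (k : ℕ) : tr (s ^ 2 ^ k) = tr s ^ 2 ^ k := by
  induction k with
  | zero => simp
  | succ k ih => rw [pow_succ, pow_mul, pow_mul, sq (s ^ 2 ^ k), tr_sq, ih]

theorem tr_two {s : SpecialLinearGroup (Fin 2) F} (hs : ∃ k : ℕ, s ^ 2 ^ k = 1) : tr s = 0 := by
  obtain ⟨k, hk⟩ := hs
  have := tr_pow s k
  rw [hk, tr_one] at this
  exact pow_eq_zero_iff (by positivity) |>.1 this.symm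

theorem sq_of_tr {s : SpecialLinearGroup (Fin 2) F} (hs : tr s = 0) : s * s = 1 := by
  have hd := det1 s
  simp only [tr] at hs
  apply ext2
  · rw [mul_ap, one00]
    linear_combination hd + s 0 0 * hs + (s 0 1 * s 1 0 - s 0 0 * s 1 1) * (two0 (F := F))
  · rw [mul_ap, one01]
    linear_combination s 0 1 * hs
  · rw [mul_ap, one10]
    linear_combination s 1 0 * hs
  · rw [mul_ap, one11]
    linear_combination hd + s 1 1 * hs + (s 0 1 * s 1 0 - s 0 0 * s 1 1) * (two0 (F := F))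

theorem eq_one_of_sq {a : F} (h : a * a = 1) : a = 1 := by
  have : (a - 1) ^ 2 = 0 := by linear_combination h + (1 - a) * (two0 (F := F))
  exact sub_eq_zero.1 (pow_eq_zero_iff (by norm_num) |>.1 this)

theorem ord3_of_tr {x : SpecialLinearGroup (Fin 2) F} (hx : tr x = 1) : orderOf x = 3 := by
  have hd := det1 x
  have : Fact (Nat.Prime 3) := ⟨by norm_num⟩
  apply orderOf_eq_prime
  · simp only [tr] at hx
    have h11 : x 1 1 = 1 - x 0 0 := by linear_combination hx
    rw [pow_succ, sq]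
    apply ext2
    · rw [mul_ap, mul_ap, mul_ap, one00]
      rw [h11] at hd ⊢
      linear_combination (-(x 0 0) - 1) * hd + (-1 : F) * (two0 (F := F))
    · rw [mul_ap, mul_ap, mul_ap, one01]
      rw [h11] at hd ⊢
      linear_combination (-(x 0 1)) * hd
    · rw [mul_ap, mul_ap, mul_ap, one10]
      rw [h11] at hd ⊢
      linear_combination (-(x 1 0)) * hd
    · rw [mul_ap, mul_ap, mul_ap, one11]
      rw [h11] at hd ⊢
      linear_combination (x 0 0 - 2) * hd + (-1 : F) * (two0 (F := F))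
  · rintro rfl
    rw [tr_one] at hx
    exact zero_ne_one hx

theorem tr_of_ord3 {x : SpecialLinearGroup (Fin 2) F} (hx : orderOf x = 3) : tr x = 1 := by
  have hd := det1 x
  have h3 : x * x * x = 1 := by
    have := pow_orderOf_eq_one x
    rwa [hx, pow_succ, sq] at this
  have h1 : x ≠ 1 := by
    rintro rfl
    simp at hx
  by_contra ht
  have ht' : x 0 0 + x 1 1 - 1 ≠ 0 := sub_ne_zero.2 ht
  have ht2 : (x 0 0 + x 1 1 - 1) ^ 2 ≠ 0 := pow_ne_zero _ ht'
  have e01 : (x * x * x) 0 1 = 0 := by rw [h3, one01]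
  have e10 : (x * x * x) 1 0 = 0 := by rw [h3, one10]
  have e00 : (x * x * x) 0 0 = 1 := by rw [h3, one00]
  have e11 : (x * x * x) 1 1 = 1 := by rw [h3, one11]
  simp only [mul_ap] at e01 e10 e00 e11
  have b0 : x 0 1 = 0 := by
    apply mul_left_cancel₀ ht2
    linear_combination e01 + x 0 1 * hd + (x 0 1 * (1 - x 0 0 - x 1 1)) * (two0 (F := F))
  have c0 : x 1 0 = 0 := by
    apply mul_left_cancel₀ ht2
    linear_combination e10 + x 1 0 * hd + (x 1 0 * (1 - x 0 0 - x 1 1)) * (two0 (F := F))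
  rw [b0, c0] at hd e00 e11
  apply h1
  have ha : x 0 0 = 1 := by
    apply mul_left_cancel₀ ht'
    -- a³ = 1, a d = 1, so d = a²
    have hda : x 1 1 = x 0 0 * x 0 0 := by linear_combination (-(x 1 1)) * e00 + x 0 0 * x 0 0 * hd
    rw [hda]
    linear_combination e00 + (1 - x 0 0) * (two0 (F := F))
  apply ext2
  · rw [ha, one00]
  · rw [b0, one01]
  · rw [c0, one10]
  · rw [one11]
    rw [ha] at hd
    linear_combination hd

theorem inv_of_tr {s x : SpecialLinearGroup (Fin 2) F} (hs : tr s = 0) (h : tr (s * x) = 0) :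
    s * x * s⁻¹ = x⁻¹ := by
  have h1 := sq_of_tr hs
  have h2 := sq_of_tr h
  have h3 : s⁻¹ = s := inv_eq_of_mul_eq_one_right h1
  rw [h3, eq_inv_iff_mul_eq_one, ← h2]
  simp only [mul_assoc]

theorem ord2_of_tr {s : SpecialLinearGroup (Fin 2) F} (hs : tr s = 0) (h1 : s ≠ 1) :
    orderOf s = 2 :=
  orderOf_eq_prime (by rw [sq, sq_of_tr hs]) h1

/-- the matrix with the given entries -/
def mk (a b c d : F) (h : a * d - b * c = 1) : SpecialLinearGroup (Fin 2) F :=
  ⟨!![a, b; c, d], by rw [Matrix.det_fin_two_of]; exact h⟩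

omit [CharP F 2] in
theorem mk00 (a b c d : F) (h : a * d - b * c = 1) : mk a b c d h 0 0 = a := rfl
omit [CharP F 2] in
theorem mk01 (a b c d : F) (h : a * d - b * c = 1) : mk a b c d h 0 1 = b := rfl
omit [CharP F 2] in
theorem mk10 (a b c d : F) (h : a * d - b * c = 1) : mk a b c d h 1 0 = c := rfl
omit [CharP F 2] in
theorem mk11 (a b c d : F) (h : a * d - b * c = 1) : mk a b c d h 1 1 = d := rfl

theorem m_cent3 {x u : SpecialLinearGroup (Fin 2) F} (hx : orderOf x = 3)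
    (hu : ∃ k : ℕ, u ^ 2 ^ k = 1) (hc : u * x = x * u) : u = 1 := by
  have tx := tr_of_ord3 hx
  have tu := tr_two hu
  have hd := det1 u
  simp only [tr] at tx tu
  have e01 : (u * x) 0 1 = (x * u) 0 1 := by rw [hc]
  have e10 : (u * x) 1 0 = (x * u) 1 0 := by rw [hc]
  simp only [mul_ap] at e01 e10
  have b0 : u 0 1 = 0 := by
    linear_combination e01 - u 0 1 * tx - x 0 1 * tu +
      (x 0 0 * u 0 1 + x 0 1 * u 1 1) * (two0 (F := F))
  have c0 : u 1 0 = 0 := by
    linear_combination e10 - u 1 0 * tx - x 1 0 * tu +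
      (x 1 1 * u 1 0 + x 1 0 * u 0 0) * (two0 (F := F))
  have h11 : u 1 1 = u 0 0 := by linear_combination tu - u 0 0 * (two0 (F := F))
  rw [b0, h11] at hd
  have ha : u 0 0 = 1 := eq_one_of_sq (by linear_combination hd)
  apply ext2
  · rw [ha, one00]
  · rw [b0, one01]
  · rw [c0, one10]
  · rw [h11, ha, one11]

theorem m_inv_of_inv {s : SpecialLinearGroup (Fin 2) F} (hs : orderOf s = 2) :
    ∃ x : SpecialLinearGroup (Fin 2) F, orderOf x = 3 ∧ s * x * s⁻¹ = x⁻¹ := by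
  have ts : tr s = 0 := tr_two ⟨1, by
    have := pow_orderOf_eq_one s
    rwa [hs] at this⟩
  have hd := det1 s
  have h1 : s ≠ 1 := by
    rintro rfl
    simp at hs
  have h11 : s 1 1 = s 0 0 := by
    simp only [tr] at ts
    linear_combination ts - s 0 0 * (two0 (F := F))
  rw [h11] at hd
  by_cases hb : s 0 1 = 0
  · rw [hb] at hd
    have ha : s 0 0 = 1 := eq_one_of_sq (by linear_combination hd)
    have hc : s 1 0 ≠ 0 := by
      intro hc
      apply h1
      apply ext2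
      · rw [ha, one00]
      · rw [hb, one01]
      · rw [hc, one10]
      · rw [h11, ha, one11]
    have hi : (s 1 0)⁻¹ * s 1 0 = 1 := inv_mul_cancel₀ hc
    refine ⟨mk 1 (s 1 0)⁻¹ (s 1 0) 0 (by linear_combination (-1 : F) * hi - (two0 (F := F))),
      ord3_of_tr (by simp only [tr, mk00, mk11, add_zero]), inv_of_tr ts ?_⟩
    simp only [tr, mul_ap, mk00, mk01, mk10, mk11]
    rw [hb, ha]
    linear_combination hi + (two0 (F := F))
  · have hi : (s 0 1)⁻¹ * s 0 1 = 1 := inv_mul_cancel₀ hb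
    refine ⟨mk (s 0 0 + 1) (s 0 1) (s 1 0 + s 0 0 * (s 0 1)⁻¹) (s 0 0)
      (by linear_combination hd - s 0 0 * hi), ord3_of_tr ?_, inv_of_tr ts ?_⟩
    · simp only [tr, mk00, mk11]
      linear_combination s 0 0 * (two0 (F := F))
    · simp only [tr, mul_ap, mk00, mk01, mk10, mk11]
      rw [h11]
      linear_combination s 0 0 * hi + (s 0 0 * s 0 0 + s 0 0 + s 0 1 * s 1 0) * (two0 (F := F))

theorem m_inv_of_ord3 {x : SpecialLinearGroup (Fin 2) F} (hx : orderOf x = 3) :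
    ∃ s : SpecialLinearGroup (Fin 2) F, orderOf s = 2 ∧ s * x * s⁻¹ = x⁻¹ := by
  have tx := tr_of_ord3 hx
  have hd := det1 x
  have h11 : x 1 1 = x 0 0 + 1 := by
    simp only [tr] at tx
    linear_combination tx - x 0 0 * (two0 (F := F))
  rw [h11] at hd
  have key : ∀ (a b c : F) (h : a * a - b * c = 1), (b ≠ 0 ∨ c ≠ 0) →
      a + b * x 1 0 + c * x 0 1 = 0 →
      ∃ s : SpecialLinearGroup (Fin 2) F, orderOf s = 2 ∧ s * x * s⁻¹ = x⁻¹ := by
    intro a b c h hbc he
    have ts : tr (mk a b c a h) = 0 := by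
      simp only [tr, mk00, mk11]
      linear_combination a * (two0 (F := F))
    refine ⟨mk a b c a h, ord2_of_tr ts ?_, inv_of_tr ts ?_⟩
    · intro h1
      rcases hbc with hb | hc
      · exact hb (by rw [← mk01 a b c a h, h1, one01])
      · exact hc (by rw [← mk10 a b c a h, h1, one10])
    · simp only [tr, mul_ap, mk00, mk01, mk10, mk11]
      rw [h11]
      linear_combination he + a * x 0 0 * (two0 (F := F))
  by_cases hq : x 0 1 = 0
  · by_cases hr : x 1 0 = 0
    · refine key 0 1 1 (by linear_combination (-1 : F) * (two0 (F := F))) (Or.inl one_ne_zero) ?_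
      rw [hq, hr]
      ring
    · have hi : (x 1 0)⁻¹ * x 1 0 = 1 := inv_mul_cancel₀ hr
      refine key (x 0 0) (x 0 1 + x 0 0 * (x 1 0)⁻¹) (x 1 0) ?_ (Or.inr hr) ?_
      · linear_combination hd - x 0 0 * hi - x 0 0 * (two0 (F := F))
      · linear_combination x 0 0 * hi + (x 0 0 + x 0 1 * x 1 0) * (two0 (F := F))
  · have hi : (x 0 1)⁻¹ * x 0 1 = 1 := inv_mul_cancel₀ hq
    refine key (x 0 0 + 1) (x 0 1) (x 1 0 + (x 0 0 + 1) * (x 0 1)⁻¹) ?_ (Or.inl hq) ?_
    · linear_combination hd - (x 0 0 + 1) * hi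
    · linear_combination (x 0 0 + 1) * hi + (x 0 0 + 1 + x 0 1 * x 1 0) * (two0 (F := F))

end Mat

theorem charP_two {F : Type} [Field F] [Fintype F] {k : ℕ} (hk : 2 ≤ k)
    (hF : Fintype.card F = 2 ^ k) : CharP F 2 := by
  have h0 : ((2 ^ k : ℕ) : F) = 0 := by rw [← hF]; exact FiniteField.cast_card_eq_zero F
  have h2 : ((2 : ℕ) : F) = 0 := by
    rw [Nat.cast_pow] at h0
    exact pow_eq_zero_iff (by omega) |>.1 h0
  exact (CharP.charP_iff_prime_eq_zero Nat.prime_two).2 h2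

variable {L : Type u} [Group L]

theorem sq (h : L2e L) {s : L} (hs : ∃ k : ℕ, s ^ 2 ^ k = 1) : s ^ 2 = 1 := by
  obtain ⟨F, _, _, k, hk, hF, ⟨e⟩⟩ := h
  have := charP_two hk hF
  obtain ⟨j, hj⟩ := hs
  apply e.injective
  rw [map_pow, map_one, _root_.sq]
  exact sq_of_tr (tr_two ⟨j, by rw [← map_pow, hj, map_one]⟩)

theorem cent3 (h : L2e L) {x u : L} (hx : orderOf x = 3) (hu : ∃ k : ℕ, u ^ 2 ^ k = 1)
    (hc : u * x = x * u) : u = 1 := by
  obtain ⟨F, _, _, k, hk, hF, ⟨e⟩⟩ := h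
  have := charP_two hk hF
  obtain ⟨j, hj⟩ := hu
  apply e.injective
  rw [map_one]
  exact m_cent3 (x := e x) (by rw [e.orderOf_eq, hx]) ⟨j, by rw [← map_pow, hj, map_one]⟩
    (by rw [← map_mul, ← map_mul, hc])

theorem inv_of_inv (h : L2e L) {s : L} (hs : orderOf s = 2) :
    ∃ x : L, orderOf x = 3 ∧ s * x * s⁻¹ = x⁻¹ := by
  obtain ⟨F, _, _, k, hk, hF, ⟨e⟩⟩ := h
  have := charP_two hk hF
  obtain ⟨x, hx, hi⟩ := m_inv_of_inv (s := e s) (by rw [e.orderOf_eq, hs])
  refine ⟨e.symm x, by rw [e.symm.orderOf_eq, hx], e.injective ?_⟩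
  simpa using hi

theorem inv_of_ord3 (h : L2e L) {x : L} (hx : orderOf x = 3) :
    ∃ s : L, orderOf s = 2 ∧ s * x * s⁻¹ = x⁻¹ := by
  obtain ⟨F, _, _, k, hk, hF, ⟨e⟩⟩ := h
  have := charP_two hk hF
  obtain ⟨s, hs, hi⟩ := m_inv_of_ord3 (x := e x) (by rw [e.orderOf_eq, hx])
  refine ⟨e.symm s, by rw [e.symm.orderOf_eq, hs], e.injective ?_⟩
  simpa using hi

end CL.Gg.SLa2
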