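import Cfsg.Agent.BLK.Gg.Defs
import Cfsg.Agent.BLK.Go.Out

/-!
Cyclic outer automorphism group of `SL₂(2^k)`.
-/

set_option autoImplicit false

namespace CL.Gg.SLc3

open Subgroup Cfsg

universe u

variable {Y : Type u} [Group Y] [Finite Y]

theorem cyc (L : Subgroup Y) [L.Normal] (hL : L2e L) (hC : centralizer (L : Set Y) = ⊥) :
    ∃ y : Y, L ⊔ zpowers y = ⊤ := by
  obtain ⟨F, _, _, k, hk, hF, ⟨e⟩⟩ := hL
  refine CL.Go.exists_sup_zpowers (F := F) ?_ L e (hC ▸ bot_le) (Or.inr ?_)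
  · rw [hF]
    calc 3 < 2 ^ 2 := by norm_num
      _ ≤ 2 ^ k := Nat.pow_le_pow_right two_pos hk
  · rw [hF]
    exact (Nat.even_pow.2 ⟨even_two, by omega⟩)

end CL.Gg.SLc3
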