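import Cfsg.Agent.BLK.Gg.Str
import Cfsg.Agent.BLK.Gg.Q2
import Cfsg.Agent.BLK.Gg.SLc
import Cfsg.Agent.BLK.Gg.Nat

/-!
The shape of subgroups generated by elements of order 3.
-/

set_option autoImplicit false

namespace CL.Gg

open Subgroup Cfsg CL.MSS

universe u v

variable {X : Type u} {V : Type v} [Group X] [Finite X] [AddCommGroup V] [Finite V]
  [DistribMulAction X V]

/-- `Md.quot` for `D = O₂(X)`, `pCore_quot`, `ord3_mk` (nontrivial, `3 ∣` order), `Md.str`, `ih`. -/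
theorem Md.shape {n : ℕ} (ih : IH.{u, v} n) (h : Md X V) (hn : Nat.card X < n)
    (h3 : X3 (⊤ : Subgroup (X ⧸ pCore 2 X)) = ⊤) {x : X} (hx : orderOf x = 3)
    (hA : NoA (X ⧸ pCore 2 X)) : Shape X := by
  have hO : IsPGroup 2 (pCore 2 X) := CL.isPGroup_pCore 2 _
  obtain ⟨W, _, _, _, hW⟩ := h.quot (pCore 2 X) hO
  have hx' := ord3_mk _ hO hx
  haveI : Nontrivial (X ⧸ pCore 2 X) := ⟨⟨x, 1, fun e => by rw [e, orderOf_one] at hx'; omega⟩⟩
  rcases hW.str pCore_quot h3 with h1 | ⟨h1, h2⟩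
  · exact Or.inl h1
  · exact Or.inr (ih _ W (lt_of_le_of_lt (Nat.card_le_card_of_surjective _ QuotientGroup.mk_surjective) hn) h1 h2
      hW hA (hx' ▸ orderOf_dvd_natCard _))

/-- `K := X3 H`; `O₂(K)` is centralized by every element of order 3 of `K` (`NoA`), so central in `K`; `shape` (`X3_X3`, `X3_top_of`, `X3_quot`, `NoA.sub`, `NoA.quot`).
Order 3: `K = O₂(K)⟨x⟩` is abelian, all its elements of order 3 are `x^±1` (`conj3`). `L2o`: `L2o.schur` gives `O₂(K) = ⊥`. -/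
theorem Md.x3_sub {n : ℕ} (ih : IH.{u, v} n) (h : Md X V) (hA : NoA X) {H : Subgroup X}
    (hn : Nat.card H < n) {x : X} (hxH : x ∈ H) (hx : orderOf x = 3) :
    X3 H = zpowers x ∨ L2o (X3 H) := by
  have hO : IsPGroup 2 (pCore 2 (X3 H)) := CL.isPGroup_pCore 2 _
  have h3 : X3 (⊤ : Subgroup (X3 H)) = ⊤ := X3_top_of (X3_X3 H)
  have hxK : x ∈ X3 H := mem_X3 hxH hx
  have hc : pCore 2 (X3 H) ≤ center (X3 H) := by
    have e : X3 (⊤ : Subgroup (X3 H)) ≤ centralizer (pCore 2 (X3 H) : Set (X3 H)) :=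
      (closure_le _).2 fun y hy => hA.sub _ y hy.2 _ hO (by rw [normalizer_eq_top]; trivial)
    intro z hz
    exact mem_center_iff.2 fun g => (mem_centralizer_iff.1 (e (h3.symm ▸ mem_top g)) z hz).symm
  have hs := (h.sub (X3 H)).shape ih (lt_of_le_of_lt (card_le_of_le (X3_le H)) hn) (X3_quot h3 _ hO)
    (x := ⟨x, hxK⟩) (by rw [← Subgroup.orderOf_coe]; exact hx) ((hA.sub _).quot _ hO)
  rcases hs with h1 | h1
  · left
    haveI : IsCyclic (X3 H ⧸ pCore 2 (X3 H)) := isCyclic_of_prime_card (p := 3) h1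
    have cm : ∀ a b : X3 H, a * b = b * a :=
      (MonoidHom.isMulCommutative_of_isCyclic_of_ker_le_center (QuotientGroup.mk' (pCore 2 (X3 H)))
        (by rwa [QuotientGroup.ker_mk'])).is_comm.comm
    refine le_antisymm ((closure_le _).2 fun y hy => ?_) (zpowers_le.2 hxK)
    obtain ⟨g, hg, e⟩ := h.conj3 (X3 H) hxK (mem_X3 hy.1 hy.2) hx hy.2
    have e1 : g * x * g⁻¹ = x := by
      rw [show g * x = x * g from congrArg Subtype.val (cm ⟨g, hg⟩ ⟨x, hxK⟩), mul_inv_cancel_right]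
    rw [e1] at e
    rcases e with e | e
    · exact e ▸ mem_zpowers x
    · exact (inv_mem_iff (H := zpowers x)).1 (e ▸ mem_zpowers x)
  · right
    have hb := L2o.schur h3 _ hO hc h1
    exact h1.of_equiv ((QuotientGroup.quotientMulEquivOfEq hb).trans QuotientGroup.quotientBot).symm

/-- `NoA (J ⧸ O)`, `O = O₂(J)`: an element of order 3 of `J ⧸ O` lifts (`lift3`) and is conjugate to `x̄^±1` (`conj3`), so let `x̄` normalize the 2-group `Ē`, `E ≥ O` its preimage in `X`.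
`t ∈ ⁅E,⟨x⟩⁆ ≤ At V t` (`q2_le`), `⁅E,⟨x⟩⁆ = ⁅E,⟨x⟩,⟨x⟩⁆ ≤ ⁅At V t,⟨x⟩⁆ ≤ O` (`comm_comm`). Then `shape`. -/
theorem Md.shapeA (ih : ∀ n, IH.{u, v} n) (h : Md X V) (hO : pCore 2 X = ⊥) {J : Subgroup X}
    (hJ : J ≤ pCoreOf 2 J ⊔ X3 J) {x : X} (hxJ : x ∈ J) (hx : orderOf x = 3) {t : X}
    (ht : t ∈ ⁅pCoreOf 2 J, zpowers x⁆) (h1 : t ≠ 1) (hle : ⁅At V t, zpowers x⁆ ≤ pCoreOf 2 J) :
    Shape J := by
  have hP : IsPGroup 2 (pCore 2 J) := CL.isPGroup_pCore 2 _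
  have hx' : orderOf (⟨x, hxJ⟩ : J) = 3 := by rw [← Subgroup.orderOf_coe]; exact hx
  have h3 : X3 (⊤ : Subgroup (J ⧸ pCore 2 J)) = ⊤ := by
    have e : J ≤ ((X3 (⊤ : Subgroup (J ⧸ pCore 2 J))).comap (QuotientGroup.mk' _)).map J.subtype := by
      refine hJ.trans (sup_le (map_mono fun z hz => ?_) ((closure_le _).2 fun y hy => ⟨⟨y, hy.1⟩, ?_, rfl⟩))
      · rw [mem_comap, QuotientGroup.mk'_apply, (QuotientGroup.eq_one_iff z).2 hz]
        exact one_mem _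
      · exact mem_X3 (mem_top _) (ord3_mk _ hP (by rw [← Subgroup.orderOf_coe]; exact hy.2))
    refine eq_top_iff.2 fun y _ => ?_
    obtain ⟨j, rfl⟩ := QuotientGroup.mk_surjective y
    obtain ⟨j', hj', e'⟩ := e j.2
    exact (Subtype.ext e' : j' = j) ▸ hj'
  have key : ∀ E : Subgroup (J ⧸ pCore 2 J), IsPGroup 2 E →
      ((⟨x, hxJ⟩ : J) : J ⧸ pCore 2 J) ∈ normalizer (E : Set (J ⧸ pCore 2 J)) →
      ((⟨x, hxJ⟩ : J) : J ⧸ pCore 2 J) ∈ centralizer (E : Set (J ⧸ pCore 2 J)) := fun E hE hn => by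
    have hE' : IsPGroup 2 ((E.comap (QuotientGroup.mk' (pCore 2 J))).map J.subtype) :=
      (hE.comap_of_ker_isPGroup _ (by rwa [QuotientGroup.ker_mk'])).map _
    have hn' : x ∈ normalizer (((E.comap (QuotientGroup.mk' (pCore 2 J))).map J.subtype : Subgroup X) : Set X) :=
      le_normalizer_map J.subtype ⟨⟨x, hxJ⟩, le_normalizer_comap _ hn, rfl⟩
    have hOE : pCoreOf 2 J ≤ (E.comap (QuotientGroup.mk' (pCore 2 J))).map J.subtype :=
      map_mono fun z hz => by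
        rw [mem_comap, QuotientGroup.mk'_apply, (QuotientGroup.eq_one_iff z).2 hz]
        exact one_mem _
    have q := (h.q2_le hO hE' hx hn' (commutator_mono hOE le_rfl ht) h1).2
    have q' : ⁅(E.comap (QuotientGroup.mk' (pCore 2 J))).map J.subtype, zpowers x⁆ ≤ pCoreOf 2 J := by
      rw [← comm_comm hE' hx hn']
      exact (commutator_mono q le_rfl).trans hle
    refine mem_centralizer_iff.2 fun e he => ?_
    obtain ⟨j, rfl⟩ := QuotientGroup.mk_surjective e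
    obtain ⟨z, hz, ez⟩ := q' (commutator_mem_commutator (mem_map_of_mem J.subtype (show j ∈ E.comap _ from he))
      (mem_zpowers x))
    have ez' : z = j * ⟨x, hxJ⟩ * j⁻¹ * (⟨x, hxJ⟩ : J)⁻¹ := Subtype.ext ez
    have := (QuotientGroup.eq_one_iff z).2 hz
    rw [ez', QuotientGroup.mk_mul, QuotientGroup.mk_mul, QuotientGroup.mk_mul, QuotientGroup.mk_inv,
      QuotientGroup.mk_inv, mul_inv_eq_one, mul_inv_eq_iff_eq_mul] at this
    exact this
  have key2 : ∀ (g : J ⧸ pCore 2 J) (E : Subgroup (J ⧸ pCore 2 J)), IsPGroup 2 E →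
      g * ((⟨x, hxJ⟩ : J) : J ⧸ pCore 2 J) * g⁻¹ ∈ normalizer (E : Set (J ⧸ pCore 2 J)) →
      g * ((⟨x, hxJ⟩ : J) : J ⧸ pCore 2 J) * g⁻¹ ∈ centralizer (E : Set (J ⧸ pCore 2 J)) := fun g E hE hn => by
    have k := key (E.comap (MulAut.conj g).toMonoidHom) (hE.comap_of_injective _ (MulAut.conj g).injective)
      (le_normalizer_comap _ hn)
    refine mem_centralizer_iff.2 fun e he => ?_
    have := mem_centralizer_iff.1 k (g⁻¹ * e * g) (by
      show g * (g⁻¹ * e * g) * g⁻¹ ∈ E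
      simpa [mul_assoc] using he)
    generalize ((⟨x, hxJ⟩ : J) : J ⧸ pCore 2 J) = a at this ⊢
    calc e * (g * a * g⁻¹) = g * (g⁻¹ * e * g * a) * g⁻¹ := by group
      _ = _ := by rw [this]; group
  refine (h.sub J).shape (ih _) (Nat.lt_succ_self _) h3 hx' fun y hy E hE hn => ?_
  obtain ⟨y', oy, rfl⟩ := lift3 _ hP hy
  obtain ⟨g, -, e⟩ := (h.sub J).conj3 ⊤ (mem_top _) (mem_top y') hx' oy
  rcases e with e | e
  · have e' := congrArg (QuotientGroup.mk' (pCore 2 J)) e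
    simp only [map_mul, map_inv, QuotientGroup.mk'_apply] at e'
    rw [← e'] at hn ⊢
    exact key2 _ E hE hn
  · have e' := congrArg (QuotientGroup.mk' (pCore 2 J)) e
    simp only [map_mul, map_inv, QuotientGroup.mk'_apply] at e'
    have := key2 g E hE (e' ▸ inv_mem hn)
    rw [e'] at this
    exact inv_mem_iff.1 this

/-- `nat1` for the group `K` with `O = ⊥` (`QuotientGroup.quotientBot`), `W = ⊥`, `Z = ⊤`, `T` a Sylow 2-subgroup of `K` containing `S`. -/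
theorem Md.syl_At (h : Md X V) {K S : Subgroup X} (hK : L2e K) (hS : IsPGroup 2 S) (hSK : S ≤ K)
    {t : X} (ht : t ∈ S) (h1 : t ≠ 1) : S ≤ At V t := by
  obtain ⟨T, hT⟩ := (hS.comap_subtype (K := K)).exists_le_sylow
  have hL : L2e (K ⧸ (⊥ : Subgroup K)) := by
    obtain ⟨F, _, _, k, hk, hF, ⟨e⟩⟩ := hK
    exact ⟨F, inferInstance, inferInstance, k, hk, hF, ⟨QuotientGroup.quotientBot.trans e⟩⟩
  intro s hs v hv
  have := (h.sub K).nat1 ⊥ IsPGroup.of_bot hL ⊥ ⊤ le_top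
    (fun g w hw => by rw [AddSubgroup.mem_bot.1 hw, smul_zero]; exact zero_mem _) (fun _ _ _ => trivial)
    (fun o ho z _ => by rw [mem_bot.1 ho, one_smul, sub_self]; exact zero_mem _) T
    (s := ⟨t, hSK ht⟩) (hT ht) (fun e => h1 (congrArg Subtype.val (mem_bot.1 e))) (z := v) trivial
    (AddSubgroup.mem_bot.2 (sub_eq_zero.2 hv)) (t := ⟨s, hSK hs⟩) (hT hs)
  exact sub_eq_zero.1 (AddSubgroup.mem_bot.1 this)

end CL.Gg
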