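import Cfsg.Agent.BLK.Gg.Defs
import Cfsg.Agent.SOLV.Coprime
import Cfsg.Agent.SOLV.Core

/-!
Lifting inverting 2-elements over normal 2-subgroups; coprime commutators.
-/

set_option autoImplicit false

namespace CL.Gg.X3b

open Subgroup Cfsg

universe u

variable {X : Type u} [Group X] [Finite X]

omit [Finite X] in
theorem cop {Y : Subgroup X} [Finite Y] (hY : IsPGroup 2 Y) {x : X} (hx : orderOf x = 3) :
    (Nat.card (zpowers x)).Coprime (Nat.card Y) := by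
  obtain ⟨n, hn⟩ := IsPGroup.iff_card.1 hY
  rw [Nat.card_zpowers, hx, hn]
  exact Nat.Coprime.pow_right _ (by norm_num)

omit [Finite X] in
theorem sol (x : X) : Group.IsSolvable (zpowers x) :=
  Group.isSolvable_of_comm fun a b => Subtype.ext (by
    obtain ⟨i, hi⟩ := mem_zpowers_iff.1 a.2
    obtain ⟨j, hj⟩ := mem_zpowers_iff.1 b.2
    change (a : X) * b = b * a
    rw [← hi, ← hj, ← zpow_add, ← zpow_add, add_comm])

omit [Finite X] in
theorem odd_pow {n x : X} (h : n * x * n⁻¹ = x⁻¹) (j : ℕ) : n ^ (2 * j + 1) * x * (n ^ (2 * j + 1))⁻¹ = x⁻¹ := by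
  induction j with
  | zero => simpa using h
  | succ j ih =>
    have h' : n * x⁻¹ * n⁻¹ = x := by rw [← conj_inv, h, inv_inv]
    calc _ = n * (n * (n ^ (2 * j + 1) * x * (n ^ (2 * j + 1))⁻¹) * n⁻¹) * n⁻¹ := by
          rw [show 2 * (j + 1) + 1 = 1 + (1 + (2 * j + 1)) by ring, pow_add, pow_add]; group
      _ = x⁻¹ := by rw [ih, h', h]

theorem lift_inv (D : Subgroup X) [D.Normal] (hD : IsPGroup 2 D) {x : X} (hx : orderOf x = 3) {σ : X ⧸ D}
    (hσ : ∃ k : ℕ, σ ^ 2 ^ k = 1) (hi : σ * (x : X ⧸ D) * σ⁻¹ = (x : X ⧸ D)⁻¹) :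
    ∃ s : X, (s : X ⧸ D) = σ ∧ (∃ k : ℕ, s ^ 2 ^ k = 1) ∧ s * x * s⁻¹ = x⁻¹ := by
  have hc := cop hD hx
  have hn : σ ∈ normalizer (((zpowers x).map (QuotientGroup.mk' D) : Subgroup (X ⧸ D)) : Set (X ⧸ D)) := by
    rw [MonoidHom.map_zpowers]
    refine mem_normalizer_fintype fun a ha => ?_
    obtain ⟨i, rfl⟩ := mem_zpowers_iff.1 ha
    rw [← conj_zpow, QuotientGroup.mk'_apply, hi]
    exact zpow_mem (inv_mem (mem_zpowers _)) i
  rw [normalizer_map_mk'_of_coprime D (zpowers x) hc (Or.inl (sol x))] at hn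
  obtain ⟨n, hn, rfl⟩ := hn
  rw [QuotientGroup.mk'_apply] at hσ hi ⊢
  have h1 : n * x * n⁻¹ * x ∈ zpowers x :=
    mul_mem ((mem_normalizer_iff.1 hn x).1 (mem_zpowers x)) (mem_zpowers x)
  have h2 : n * x * n⁻¹ * x ∈ D := by
    rw [← QuotientGroup.eq_one_iff, QuotientGroup.mk_mul, QuotientGroup.mk_mul, QuotientGroup.mk_mul,
      QuotientGroup.mk_inv, hi, inv_mul_cancel]
  have h3 : n * x * n⁻¹ = x⁻¹ := by
    have := (disjoint_iff.1 (disjoint_of_coprime_natCard hc)).le ⟨h1, h2⟩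
    exact eq_inv_of_mul_eq_one_left (mem_bot.1 this)
  obtain ⟨k, hk⟩ := hσ
  obtain ⟨a, m, hm, e⟩ := Nat.exists_eq_two_pow_mul_odd (orderOf_pos n).ne'
  have co : m.Coprime (2 ^ (k + 1)) := (Nat.coprime_two_right.2 hm).pow_right _
  obtain ⟨c, c0, c1⟩ := Nat.chineseRemainder co 0 1
  have hk' : (n : X ⧸ D) ^ 2 ^ (k + 1) = 1 := by rw [pow_succ, pow_mul, hk, one_pow]
  refine ⟨n ^ c, ?_, ⟨a, ?_⟩, ?_⟩
  · rw [QuotientGroup.mk_pow, pow_eq_pow_of_modEq c1 hk', pow_one]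
  · rw [← pow_mul, ← orderOf_dvd_iff_pow_eq_one, e, mul_comm c]
    exact Nat.mul_dvd_mul_left _ ((Nat.modEq_zero_iff_dvd).1 c0)
  · have : c % 2 = 1 := c1.of_dvd (dvd_pow_self 2 k.succ_ne_zero)
    rw [show c = 2 * (c / 2) + 1 by omega]
    exact odd_pow h3 _

theorem pCore_quot : pCore 2 (X ⧸ pCore 2 X) = ⊥ := pCore_quotient_pCore 2 X

omit [Finite X] in
theorem comm_comm {Y : Subgroup X} [Finite Y] (hY : IsPGroup 2 Y) {x : X} (hx : orderOf x = 3)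
    (hn : x ∈ normalizer (Y : Set X)) : ⁅⁅Y, zpowers x⁆, zpowers x⁆ = ⁅Y, zpowers x⁆ := by
  have : Finite (zpowers x) := Nat.finite_of_card_ne_zero (by rw [Nat.card_zpowers, hx]; norm_num)
  exact coprime_commutator_commutator _ _ (zpowers_le.2 hn) (cop hY hx) (Or.inl (sol x))

end CL.Gg.X3b
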